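import Mathlib
import Cfsg.Agent.BC85.BaseTwo.Basic

/-!
# Three vectors with trivial common stabiliser: definitions and elementary reductions
-/

set_option autoImplicit false

namespace Cfsg.Agent.BC85.BaseThree

open BaseTwo

/-- Only the elements acting trivially fix the three vectors. -/
def Reg3 (H V : Type) [Group H] [AddCommGroup V] [DistribMulAction H V] (t : Fin 3 → V) : Prop :=
  ∀ h : H, (∀ i, h • t i = t i) → Triv V h

/-- The induction hypothesis: modules of order at most `n` have regular triples. -/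
def Lin3 (n : ℕ) : Prop :=
  ∀ (V : Type) [AddCommGroup V] [Finite V] (H : Type) [Group H] [Finite H] [DistribMulAction H V],
    Nat.card V ≤ n → Group.IsSolvable H → CR H V → ∃ t : Fin 3 → V, Reg3 H V t

/-- It is enough to treat irreducible modules. -/
theorem lin3_succ {n : ℕ} (hlin : Lin3 n)
    (hirr : ∀ (V : Type) [AddCommGroup V] [Finite V] (H : Type) [Group H] [Finite H]
      [DistribMulAction H V], Nat.card V ≤ n + 1 → Group.IsSolvable H → Irr H V →
        ∃ t : Fin 3 → V, Reg3 H V t) :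
    Lin3 (n + 1) := by
  intro V _ _ H _ _ _ hn hsol hcr
  by_cases hV : ∃ v : V, v ≠ 0
  swap
  · push Not at hV
    exact ⟨fun _ => 0, fun h _ v => by rw [hV v, smul_zero]⟩
  by_cases hi : Irr H V
  · exact hirr V H hn hsol hi
  obtain ⟨U, hU, hU0, hU1⟩ : ∃ U, Inv H V U ∧ U ≠ ⊥ ∧ U ≠ ⊤ := by
    by_contra hno
    refine hi ⟨hV, fun U hU => ?_⟩
    by_contra hne
    exact hno ⟨U, hU, fun e => hne (Or.inl e), fun e => hne (Or.inr e)⟩
  obtain ⟨W, hW, hinf, hsup⟩ := hcr U hU
  have hW1 : W ≠ ⊤ := by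
    rintro rfl
    exact hU0 (by rw [← hinf, inf_top_eq])
  letI iU := restrict U hU
  letI iW := restrict W hW
  obtain ⟨p, hp⟩ := hlin U H (by have := card_lt_of_ne_top hU1; omega) hsol (cr_restrict hcr U hU)
  obtain ⟨q, hq⟩ := hlin W H (by have := card_lt_of_ne_top hW1; omega) hsol (cr_restrict hcr W hW)
  refine ⟨fun i => (p i : V) + q i, fun h hfix => ?_⟩
  have split : ∀ (u : U) (w : W), h • ((u : V) + w) = u + w → h • u = u ∧ h • w = w := by
    intro u w he
    rw [smul_add] at he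
    have hd : (h • u - u : U).1 = (w - h • w : W).1 := by
      show h • (u : V) - u = w - h • (w : V)
      rw [sub_eq_sub_iff_add_eq_add, add_comm (w : V) u]
      exact he
    have hm : (h • u - u : U).1 ∈ U ⊓ W := ⟨SetLike.coe_mem _, hd ▸ SetLike.coe_mem _⟩
    rw [hinf, AddSubgroup.mem_bot] at hm
    exact ⟨sub_eq_zero.mp (Subtype.ext hm),
      (sub_eq_zero.mp (Subtype.ext (hd.symm.trans hm) : w - h • w = 0)).symm⟩
  intro v
  obtain ⟨u, hu, w, hw, rfl⟩ := AddSubgroup.mem_sup.mp (hsup ▸ AddSubgroup.mem_top v : v ∈ U ⊔ W)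
  have e1 : h • u = u := congrArg Subtype.val (hp h (fun i => (split _ _ (hfix i)).1) ⟨u, hu⟩)
  have e2 : h • w = w := congrArg Subtype.val (hq h (fun i => (split _ _ (hfix i)).2) ⟨w, hw⟩)
  rw [smul_add, e1, e2]

end Cfsg.Agent.BC85.BaseThree
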