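import Mathlib
import Cfsg.Agent.S0547
import Cfsg.Agent.S0548

/-!
# Five inequivalent colourings with five colours for solvable permutation groups
-/

set_option autoImplicit false

namespace Cfsg.Agent.BC85.BaseThree

open MulAction
open scoped Pointwise

/-- The five colourings are inequivalent and only preserved by elements fixing all points. -/
def Five5 (G I : Type) [Group G] [MulAction G I] (c : Fin 5 → I → Fin 5) : Prop :=
  ∀ (g : G) (a b : Fin 5), (∀ i : I, c a (g • i) = c b i) → a = b ∧ ∀ i : I, g • i = i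

section Coordinates

variable {p D : ℕ}

/-- The unit vectors. -/
def unitVec (p D k : ℕ) : Fin D → ZMod p := fun i => if (i : ℕ) = k then 1 else 0

open Classical in
/-- The basic colouring of a coordinate space. -/
noncomputable def baseCol (v : Fin D → ZMod p) : Fin 5 :=
  if v = 0 then 1
  else if v = unitVec p D 0 then 2
  else if ∃ k, 1 ≤ k ∧ k < D ∧ v = unitVec p D k then 3
  else if ∃ k, k + 1 < D ∧ v = unitVec p D k + unitVec p D (k + 1) then 4
  else 0

variable [Fact p.Prime]

theorem unitVec_inj {k l : ℕ} (hk : k < D) (h : unitVec p D k = unitVec p D l) : k = l := by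
  have h1 := congrFun h ⟨k, hk⟩
  simp only [unitVec, if_true] at h1
  by_contra hne
  rw [if_neg hne] at h1
  exact one_ne_zero h1

theorem baseCol_one {v : Fin D → ZMod p} : baseCol v = 1 ↔ v = 0 := by
  unfold baseCol
  split_ifs with h1 h2 h3 h4 <;> simp [h1] <;> decide

theorem baseCol_two {v : Fin D → ZMod p} (h : baseCol v = 2) : v = unitVec p D 0 := by
  revert h
  unfold baseCol
  split_ifs with h1 h2 h3 h4 <;> intro h <;> first | exact h2 | exact absurd h (by decide)

theorem baseCol_three {v : Fin D → ZMod p} (h : baseCol v = 3) :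
    ∃ k, 1 ≤ k ∧ k < D ∧ v = unitVec p D k := by
  revert h
  unfold baseCol
  split_ifs with h1 h2 h3 h4 <;> intro h <;> first | exact h3 | exact absurd h (by decide)

theorem baseCol_four {v : Fin D → ZMod p} (h : baseCol v = 4) :
    ∃ k, k + 1 < D ∧ v = unitVec p D k + unitVec p D (k + 1) := by
  revert h
  unfold baseCol
  split_ifs with h1 h2 h3 h4 <;> intro h <;> first | exact h4 | exact absurd h (by decide)

theorem unitVec_ne_zero {k : ℕ} (hk : k < D) : unitVec p D k ≠ 0 := fun h => by
  have h1 := congrFun h ⟨k, hk⟩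
  simp [unitVec] at h1

theorem baseCol_unit_zero (hD : 0 < D) : baseCol (unitVec p D 0) = 2 := by
  unfold baseCol
  rw [if_neg (unitVec_ne_zero hD), if_pos rfl]

theorem baseCol_unit {k : ℕ} (h1 : 1 ≤ k) (hk : k < D) : baseCol (unitVec p D k) = 3 := by
  unfold baseCol
  rw [if_neg (unitVec_ne_zero hk), if_neg, if_pos ⟨k, h1, hk, rfl⟩]
  intro h
  have := unitVec_inj hk h
  omega

theorem baseCol_edge {k : ℕ} (hk : k + 1 < D) :
    baseCol (unitVec p D k + unitVec p D (k + 1)) = 4 := by
  have key : ∀ l, unitVec p D k + unitVec p D (k + 1) ≠ unitVec p D l := by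
    intro l h
    have h1 := congrFun h ⟨k, by omega⟩
    have h2 := congrFun h ⟨k + 1, hk⟩
    simp [unitVec] at h1 h2
    by_cases hl : k = l
    · subst hl; simp at h2
    · simp [hl] at h1
  unfold baseCol
  rw [if_neg, if_neg (key 0), if_neg, if_pos ⟨k, hk, rfl⟩]
  · rintro ⟨l, -, -, h⟩
    exact key l h
  · intro h
    have h1 := congrFun h ⟨k, by omega⟩
    simp [unitVec] at h1

/-- An additive bijection preserving the basic colouring is the identity. -/
theorem eq_id_of_baseCol (hD : 0 < D) (T : (Fin D → ZMod p) →+ (Fin D → ZMod p))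
    (hT : Function.Injective T) (hcol : ∀ v, baseCol (T v) = baseCol v) (v : Fin D → ZMod p) :
    T v = v := by
  have hfix : ∀ k, k < D → T (unitVec p D k) = unitVec p D k := by
    intro k
    induction k using Nat.strong_induction_on with
    | _ k ih =>
      intro hk
      rcases k with _ | k
      · exact baseCol_two ((hcol _).trans (baseCol_unit_zero hD))
      obtain ⟨l, hl1, hlD, hl⟩ := baseCol_three ((hcol _).trans (baseCol_unit (by omega) hk))
      obtain ⟨m, hm, he⟩ := baseCol_four ((hcol _).trans (baseCol_edge hk))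
      rw [map_add, ih k (by omega) (by omega), hl] at he
      have hlow : k + 1 ≤ l := by
        by_contra hlt
        have := hT (hl.trans (ih l (by omega) hlD).symm)
        have := unitVec_inj hk this
        omega
      have hl' : l = k + 1 := by
        by_contra hne
        have h1 := congrFun he ⟨k, by omega⟩
        have h2 := congrFun he ⟨l, hlD⟩
        simp [unitVec, show k ≠ l by omega, show l ≠ k by omega] at h1 h2
        by_cases hk1 : k = m
        · subst hk1
          simp [show l ≠ k by omega, hne] at h2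
        · by_cases hk2 : k = m + 1
          · subst hk2
            simp [show l ≠ m by omega, show l ≠ m + 1 by omega] at h2
          · simp [hk1, hk2] at h1
      rw [hl, hl']
  have hv : v = ∑ i : Fin D, (v i).val • unitVec p D i := by
    funext j
    rw [Finset.sum_apply, Finset.sum_eq_single j]
    · simp [Pi.smul_apply, unitVec, nsmul_eq_mul]
    · intro k _ hk
      simp [Pi.smul_apply, unitVec, Fin.val_ne_of_ne hk.symm]
    · simp
  rw [hv, map_sum]
  exact Finset.sum_congr rfl fun i _ => by rw [map_nsmul, hfix i i.2]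

end Coordinates

/-- The primitive case. -/
theorem five5_of_primitive {G I : Type} [Group G] [Finite G] [MulAction G I] [Finite I]
    [FaithfulSMul G I] [Group.IsSolvable G] [hprim : IsPreprimitive G I] (hI : 2 ≤ Nat.card I) :
    ∃ c : Fin 5 → I → Fin 5, Five5 G I c := by
  classical
  haveI : Nonempty I := (Nat.card_pos_iff.mp (by omega)).1
  obtain ⟨M, ⟨hMn, hM0⟩, hmin⟩ : ∃ M, (M.Normal ∧ M ≠ ⊥) ∧
      ∀ K : Subgroup G, K.Normal → K ≤ M → K = ⊥ ∨ K = M := by
    have hne : (⊤ : Subgroup G) ≠ ⊥ := by
      intro h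
      obtain ⟨x, y, hxy⟩ : ∃ x y : I, x ≠ y := by
        by_contra hno
        push Not at hno
        haveI : Subsingleton I := ⟨hno⟩
        rw [Nat.card_of_subsingleton (Classical.arbitrary I)] at hI
        omega
      obtain ⟨g, hg⟩ := exists_smul_eq G x y
      have : g = 1 := Subgroup.mem_bot.mp (h ▸ Subgroup.mem_top g)
      rw [this, one_smul] at hg
      exact hxy hg
    obtain ⟨M, hM, hmin⟩ := Set.Finite.exists_minimal
      (s := {M : Subgroup G | M.Normal ∧ M ≠ ⊥}) (Set.toFinite _) ⟨⊤, inferInstance, hne⟩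
    refine ⟨M, hM, fun K hK hKM => ?_⟩
    by_cases h : K = ⊥
    · exact Or.inl h
    · exact Or.inr (le_antisymm hKM (hmin ⟨hK, h⟩ hKM))
  haveI := hMn
  obtain ⟨htrans, hreg, -⟩ := S0547.result hprim M hM0 hmin
  obtain ⟨p, hp, -, hMc, hMexp, -⟩ := Solvable.exists_prime_of_minimal_normal M hM0 hmin
  haveI := hMc
  haveI : Fact p.Prime := ⟨hp⟩
  set ω := Classical.arbitrary I
  have hcent := (S0548.result hprim M hM0 hmin ω).2.1
  letI : CommGroup M := { (inferInstance : Group M) with mul_comm := fun a b => mul_comm' a b }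
  haveI : Module (ZMod p) (Additive M) := AddCommGroup.zmodModule fun v => by
    apply Additive.toMul.injective
    rw [toMul_nsmul]
    exact Subtype.ext (hMexp _ (Additive.toMul v).2)
  haveI : Finite (Additive M) := inferInstanceAs (Finite M)
  haveI : Module.Finite (ZMod p) (Additive M) := Module.Finite.of_finite
  set D := Module.finrank (ZMod p) (Additive M)
  let φ : Additive M ≃ₗ[ZMod p] (Fin D → ZMod p) :=
    (Module.finBasis (ZMod p) (Additive M)).equivFun
  let P : (Fin D → ZMod p) → I := fun v => (Additive.toMul (φ.symm v)) • ω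
  have hPbij : Function.Bijective P := by
    constructor
    · intro v w h
      have h1 : (Additive.toMul (φ.symm w))⁻¹ * Additive.toMul (φ.symm v) ∈ stabilizer M ω := by
        rw [mem_stabilizer_iff, mul_smul]
        exact inv_smul_eq_iff.mpr h
      rw [hreg, Subgroup.mem_bot, inv_mul_eq_one] at h1
      exact φ.symm.injective (Additive.toMul.injective h1.symm)
    · intro i
      obtain ⟨m, hm⟩ := htrans.exists_smul_eq ω i
      exact ⟨φ (Additive.ofMul m), by simp only [P, LinearEquiv.symm_apply_apply, toMul_ofMul, hm]⟩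
  let eP : (Fin D → ZMod p) ≃ I := Equiv.ofBijective P hPbij
  have hcard : Nat.card I = p ^ D := by
    rw [← Nat.card_congr eP, Nat.card_fun, Nat.card_zmod, Nat.card_eq_fintype_card, Fintype.card_fin]
  have hD : 0 < D := by
    by_contra h
    rw [show D = 0 by omega, pow_zero] at hcard
    omega
  let c0 : I → Fin 5 := fun i => baseCol (eP.symm i)
  refine ⟨fun a i => c0 i + a, fun g a b hg => ?_⟩
  have hstep : ∀ i, c0 (g • i) = c0 i + (b - a) := fun i => by
    rw [eq_sub_of_add_eq (hg i), add_sub_assoc]
  have hδ : b - a = 0 := by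
    by_contra hne
    set δ := b - a
    have hpow : ∀ (j : ℕ) i, c0 (g ^ j • i) = c0 i + j • δ := by
      intro j
      induction j with
      | zero => intro i; simp
      | succ j ih => intro i; rw [pow_succ', mul_smul, hstep, ih, succ_nsmul, add_assoc]
    have hreach : ∀ x y δ' : Fin 5, δ' ≠ 0 → ∃ j : Fin 5, x + (j : ℕ) • δ' = y := by decide
    have hω1 : c0 (eP 0) = 1 := by
      simp only [c0, Equiv.symm_apply_apply]
      exact baseCol_one.mpr rfl
    have hinj : Function.Injective c0 := by
      intro i i' he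
      obtain ⟨j, hj⟩ := hreach (c0 i) 1 δ hne
      have key : ∀ i, c0 i + (j : ℕ) • δ = 1 → g ^ (j : ℕ) • i = eP 0 := fun i hi =>
        eP.symm.injective (by
          rw [Equiv.symm_apply_apply]
          exact baseCol_one.mp ((hpow j i).trans hi))
      exact smul_left_cancel _ ((key i hj).trans (key i' (he ▸ hj)).symm)
    have hsurj : Function.Surjective c0 := by
      intro y
      obtain ⟨j, hj⟩ := hreach 1 y δ hne
      exact ⟨g ^ (j : ℕ) • eP 0, by rw [hpow, hω1]; exact hj⟩
    have h5 : p ^ D = 5 := by
      rw [← hcard, Nat.card_congr (Equiv.ofBijective c0 ⟨hinj, hsurj⟩), Nat.card_eq_fintype_card,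
        Fintype.card_fin]
    obtain ⟨i, hi⟩ := hsurj 3
    obtain ⟨k, hk1, hkD, -⟩ := baseCol_three hi
    have : (p ^ D).Prime := by rw [h5]; norm_num
    exact absurd this (Nat.Prime.not_prime_pow (by omega))
  refine ⟨(sub_eq_zero.mp hδ).symm, ?_⟩
  have hinv : ∀ i, c0 (g • i) = c0 i := fun i => by rw [hstep, hδ, add_zero]
  have hgω : g • ω = ω := by
    have h1 : eP.symm (g • eP 0) = 0 :=
      baseCol_one.mp ((hinv (eP 0)).trans (by simp only [c0, Equiv.symm_apply_apply]
                                              exact baseCol_one.mpr rfl))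
    have h2 : g • eP 0 = eP 0 := by
      conv_lhs => rw [← eP.apply_symm_apply (g • eP 0), h1]
    simpa [eP, P] using h2
  let σ : Additive M →+ Additive M := MonoidHom.toAdditive (MulAut.conjNormal g : M ≃* M).toMonoidHom
  let T : (Fin D → ZMod p) →+ (Fin D → ZMod p) :=
    (φ.toAddEquiv.toAddMonoidHom.comp σ).comp φ.symm.toAddEquiv.toAddMonoidHom
  have hPT : ∀ v, g • eP v = eP (T v) := by
    intro v
    show g • (Additive.toMul (φ.symm v)) • ω =
      (Additive.toMul (φ.symm (φ (σ (φ.symm v))))) • ω
    rw [LinearEquiv.symm_apply_apply]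
    show g • ((Additive.toMul (φ.symm v) : M) : G) • ω =
      ((MulAut.conjNormal g (Additive.toMul (φ.symm v)) : M) : G) • ω
    rw [MulAut.conjNormal_apply, mul_smul, mul_smul, inv_smul_eq_iff.mpr hgω.symm]
  have hTinj : Function.Injective T := fun v w h => by
    have h1 := (hPT v).trans ((congrArg eP h).trans (hPT w).symm)
    exact eP.injective (smul_left_cancel g h1)
  have hTcol : ∀ v, baseCol (T v) = baseCol v := fun v => by
    have h1 := hinv (eP v)
    simpa only [c0, hPT, Equiv.symm_apply_apply] using h1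
  intro i
  obtain ⟨v, rfl⟩ := eP.surjective i
  rw [hPT, eq_id_of_baseCol hD T hTinj hTcol v]

theorem five5_aux : ∀ (n : ℕ) (G I : Type) [Group G] [Finite G] [MulAction G I] [Finite I]
    [Nonempty I], Nat.card I ≤ n → Group.IsSolvable G → ∃ c : Fin 5 → I → Fin 5, Five5 G I c := by
  intro n
  induction n using Nat.strong_induction_on with
  | _ n ih =>
    intro G I _ _ _ _ _ hn hsol
    haveI : Group.IsSolvable G := hsol
    rcases lt_or_ge (Nat.card I) 2 with hsmall | hI2
    · haveI : Subsingleton I := Finite.card_le_one_iff_subsingleton.mp (by omega)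
      obtain ⟨i⟩ := (inferInstance : Nonempty I)
      exact ⟨fun a _ => a, fun g a b h => ⟨h i, fun j => Subsingleton.elim _ _⟩⟩
    classical
    by_cases htr : IsPretransitive G I
    swap
    · obtain ⟨a, b, hab⟩ : ∃ a b : I, b ∉ orbit G a := by
        by_contra hno
        push Not at hno
        exact htr ⟨fun a b => hno a b⟩
      set P : I → Prop := fun i => i ∈ orbit G a with hPdef
      have hP : ∀ (g : G) i, P i → P (g • i) := fun g i hi => by
        obtain ⟨h, rfl⟩ := hi
        exact ⟨g * h, mul_smul g h a⟩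
      have hP' : ∀ (g : G) i, ¬ P i → ¬ P (g • i) := fun g i hi h => hi (by
        have := hP g⁻¹ _ h
        rwa [inv_smul_smul] at this)
      letI : MulAction G {i // P i} :=
        { smul := fun g i => ⟨g • i.1, hP g _ i.2⟩
          one_smul := fun i => Subtype.ext (one_smul G i.1)
          mul_smul := fun a b i => Subtype.ext (mul_smul a b i.1) }
      letI : MulAction G {i // ¬ P i} :=
        { smul := fun g i => ⟨g • i.1, hP' g _ i.2⟩
          one_smul := fun i => Subtype.ext (one_smul G i.1)
          mul_smul := fun a b i => Subtype.ext (mul_smul a b i.1) }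
      haveI : Nonempty {i // P i} := ⟨⟨a, mem_orbit_self a⟩⟩
      haveI : Nonempty {i // ¬ P i} := ⟨⟨b, hab⟩⟩
      have hlt1 : Nat.card {i // P i} < Nat.card I := Finite.card_subtype_lt (p := P) (x := b) hab
      have hlt2 : Nat.card {i // ¬ P i} < Nat.card I :=
        Finite.card_subtype_lt (p := fun i => ¬ P i) (x := a) (not_not.mpr (mem_orbit_self a))
      obtain ⟨c1, hc1⟩ := ih _ (hlt1.trans_le hn) G {i // P i} le_rfl hsol
      obtain ⟨c2, hc2⟩ := ih _ (hlt2.trans_le hn) G {i // ¬ P i} le_rfl hsol
      refine ⟨fun k i => if h : P i then c1 k ⟨i, h⟩ else c2 0 ⟨i, h⟩, fun g k l hg => ?_⟩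
      obtain ⟨hkl, hfix1⟩ := hc1 g k l fun j => by
        have := hg j.1
        simp only [dif_pos (hP g _ j.2), dif_pos j.2] at this
        exact this
      obtain ⟨-, hfix2⟩ := hc2 g 0 0 fun j => by
        have := hg j.1
        simp only [dif_neg (hP' g _ j.2), dif_neg j.2] at this
        exact this
      refine ⟨hkl, fun i => ?_⟩
      by_cases hi : P i
      · exact congrArg Subtype.val (hfix1 ⟨i, hi⟩)
      · exact congrArg Subtype.val (hfix2 ⟨i, hi⟩)
    haveI := htr
    by_cases hpr : IsPreprimitive G I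
    · let φ := toPermHom G I
      haveI : IsPreprimitive φ.range I := by
        let f : I →ₑ[φ.rangeRestrict] I :=
          { toFun := id
            map_smul' := fun g i => rfl }
        exact IsPreprimitive.of_surjective (f := f) Function.surjective_id
      haveI : Group.IsSolvable φ.range := Group.isSolvable_of_surjective φ.rangeRestrict_surjective
      obtain ⟨c, hc⟩ := five5_of_primitive (G := φ.range) (I := I) hI2
      exact ⟨c, fun g a b hg => hc ⟨φ g, g, rfl⟩ a b hg⟩
    obtain ⟨B, hB, hBnt⟩ : ∃ B : Set I, IsBlock G B ∧ ¬ IsTrivialBlock B := by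
      by_contra hno
      push Not at hno
      exact hpr ⟨fun {B} hB => hno B hB⟩
    rw [IsTrivialBlock, not_or, Set.not_subsingleton_iff] at hBnt
    obtain ⟨⟨b0, hb0, b1, hb1, hbne⟩, hBu⟩ := hBnt
    have hBne : B.Nonempty := ⟨b0, hb0⟩
    have hsys := hB.isBlockSystem hBne
    let J := {j : Set I // ∃ g : G, g • B = j}
    letI : MulAction G J :=
      { smul := fun g j => ⟨g • j.1, by obtain ⟨h, hh⟩ := j.2; exact ⟨g * h, by rw [mul_smul, hh]⟩⟩
        one_smul := fun j => Subtype.ext (one_smul G j.1)
        mul_smul := fun a b j => Subtype.ext (mul_smul a b j.1) }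
    have hblk : ∀ i : I, ∃! j : J, i ∈ j.1 := by
      intro i
      obtain ⟨S, ⟨⟨g, hg⟩, hiS⟩, huniq⟩ := hsys.1.2 i
      exact ⟨⟨S, g, hg⟩, hiS, fun j hj => Subtype.ext (huniq j.1 ⟨by
        obtain ⟨h, hh⟩ := j.2; exact ⟨h, hh⟩, hj⟩)⟩
    choose blk hblk1 hblk2 using hblk
    haveI : Finite J := Subtype.finite
    haveI : Nonempty J := ⟨blk b0⟩
    have hJlt : Nat.card J < Nat.card I := by
      have hsurj : Function.Surjective blk := by
        rintro ⟨S, g, rfl⟩
        exact ⟨g • b0, (hblk2 (g • b0) ⟨g • B, g, rfl⟩ (Set.smul_mem_smul_set hb0)).symm⟩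
      refine lt_of_le_of_ne (Nat.card_le_card_of_surjective blk hsurj) fun he => ?_
      have hinj := ((Nat.bijective_iff_surjective_and_card blk).mpr ⟨hsurj, he.symm⟩).1
      exact hbne (hinj ((hblk2 b0 ⟨B, 1, one_smul G B⟩ hb0).symm.trans
        (hblk2 b1 ⟨B, 1, one_smul G B⟩ hb1)))
    let HB : Subgroup G := stabilizer G B
    letI : MulAction HB B :=
      { smul := fun h i => ⟨(h : G) • i.1, by
          have := Set.smul_mem_smul_set (a := (h : G)) i.2
          rwa [show (h : G) • B = B from h.2] at this⟩
        one_smul := fun i => Subtype.ext (one_smul G i.1)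
        mul_smul := fun a b i => Subtype.ext (mul_smul (a : G) (b : G) i.1) }
    haveI : Nonempty B := hBne.to_subtype
    have hBlt : Nat.card B < Nat.card I := by
      obtain ⟨x, hx⟩ := (Set.ne_univ_iff_exists_notMem B).mp hBu
      exact Finite.card_subtype_lt (p := fun i => i ∈ B) (x := x) hx
    obtain ⟨cB, hcB⟩ := ih _ (hBlt.trans_le hn) HB B le_rfl inferInstance
    obtain ⟨d, hd⟩ := ih _ (hJlt.trans_le hn) G J le_rfl hsol
    choose tr htr' using fun j : J => j.2
    have hmemB : ∀ i : I, (tr (blk i))⁻¹ • i ∈ B := fun i => by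
      have h1 : i ∈ (blk i).1 := hblk1 i
      rw [← htr' (blk i)] at h1
      exact Set.mem_smul_set_iff_inv_smul_mem.mp h1
    refine ⟨fun a i => cB (d a (blk i)) ⟨(tr (blk i))⁻¹ • i, hmemB i⟩, fun g a b hg => ?_⟩
    have hblkg : ∀ i, blk (g • i) = g • blk i := fun i =>
      (hblk2 (g • i) (g • blk i) (Set.smul_mem_smul_set (hblk1 i))).symm
    have hkmem : ∀ j : J, (tr (g • j))⁻¹ * g * tr j ∈ HB := fun j => by
      rw [mem_stabilizer_iff, mul_smul, mul_smul, htr' j]
      exact inv_smul_eq_iff.mpr (htr' (g • j)).symm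
    have hloc : ∀ (j : J) (x : B),
        cB (d a (g • j)) ((⟨_, hkmem j⟩ : HB) • x) = cB (d b j) x := by
      intro j x
      have hb : blk (tr j • (x : I)) = j := by
        refine (hblk2 _ j ?_).symm
        show tr j • (x : I) ∈ j.1
        rw [← htr' j]
        exact Set.smul_mem_smul_set x.2
      have h1 := hg (tr j • (x : I))
      simp only [hblkg, hb] at h1
      convert h1 using 2
      · apply Subtype.ext
        show ((tr (g • j))⁻¹ * g * tr j) • (x : I) = (tr (g • j))⁻¹ • g • tr j • (x : I)
        rw [mul_smul, mul_smul]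
      · apply Subtype.ext
        show (x : I) = (tr j)⁻¹ • tr j • (x : I)
        rw [inv_smul_smul]
    have hall := fun j => hcB _ _ _ (hloc j)
    obtain ⟨hab, hfixJ⟩ := hd g a b fun j => (hall j).1
    refine ⟨hab, fun i => ?_⟩
    have h2 : ((tr (g • blk i))⁻¹ * g * tr (blk i)) • ((tr (blk i))⁻¹ • i) = (tr (blk i))⁻¹ • i :=
      congrArg Subtype.val ((hall (blk i)).2 ⟨_, hmemB i⟩)
    rwa [hfixJ, mul_smul, mul_smul, smul_inv_smul, smul_left_cancel_iff] at h2

/-- Solvable permutation groups have five inequivalent distinguishing five-colourings. -/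
theorem exists_five5 {G I : Type} [Group G] [Finite G] [MulAction G I] [Finite I] [Nonempty I]
    (hsol : Group.IsSolvable G) : ∃ c : Fin 5 → I → Fin 5, Five5 G I c :=
  five5_aux _ G I le_rfl hsol

end Cfsg.Agent.BC85.BaseThree
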