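import Mathlib
import Cfsg.Agent.BC85.BaseThree.Basic
import Cfsg.Agent.SylowNum.Swaps

/-!
# Five inequivalent regular triples
-/

set_option autoImplicit false

namespace Cfsg.Agent.BC85.BaseThree

open BaseTwo
open scoped commutatorElement

/-- The general linear group of degree three is not solvable. -/
theorem not_solvable_gl3 (K : Type) [Field K] : ¬ Group.IsSolvable (GL (Fin 3) K) := by
  intro hsol
  have unit : ∀ (i j : Fin 3), i ≠ j → ∀ c : K, ∃ u : GL (Fin 3) K,
      (u : Matrix (Fin 3) (Fin 3) K) = Matrix.transvection i j c ∧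
      ((u⁻¹ : GL (Fin 3) K) : Matrix (Fin 3) (Fin 3) K) = Matrix.transvection i j (-c) := by
    intro i j h c
    refine ⟨⟨Matrix.transvection i j c, Matrix.transvection i j (-c), ?_, ?_⟩, rfl, rfl⟩
    · rw [Matrix.transvection_mul_transvection_same i j h, add_neg_cancel, Matrix.transvection_zero]
    · rw [Matrix.transvection_mul_transvection_same i j h, neg_add_cancel, Matrix.transvection_zero]
  let T : Set (GL (Fin 3) K) :=
    {u | ∃ i j : Fin 3, i ≠ j ∧ ∃ c : K, (u : Matrix (Fin 3) (Fin 3) K) = Matrix.transvection i j c}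
  set E := Subgroup.closure T
  have hperf : E ≤ ⁅E, E⁆ := by
    rw [Subgroup.closure_le]
    rintro u ⟨i, j, hij, c, hu⟩
    obtain ⟨k, hki, hkj⟩ : ∃ k : Fin 3, k ≠ i ∧ k ≠ j := by
      revert hij; fin_cases i <;> fin_cases j <;> decide
    obtain ⟨a, ha, ha'⟩ := unit i k hki.symm c
    obtain ⟨b, hb, hb'⟩ := unit k j hkj 1
    have haE : a ∈ E := Subgroup.subset_closure ⟨i, k, hki.symm, c, ha⟩
    have hbE : b ∈ E := Subgroup.subset_closure ⟨k, j, hkj, 1, hb⟩
    have he : ⁅a, b⁆ = u := by
      apply Units.ext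
      rw [hu, commutatorElement_def, Units.val_mul, Units.val_mul, Units.val_mul, ha, hb, ha', hb']
      simp only [Matrix.transvection, mul_add, add_mul, one_mul, mul_one,
        Matrix.single_mul_single_same, Matrix.single_mul_single_of_ne _ _ _ _ hki,
        Matrix.single_mul_single_of_ne _ _ _ _ hkj.symm, Matrix.single_mul_single_of_ne _ _ _ _ hij.symm,
        zero_mul, mul_zero, zero_add, add_zero, mul_neg, neg_mul, (Matrix.single_neg _ _ _).symm, neg_neg]
      abel
    exact he ▸ Subgroup.commutator_mem_commutator haE hbE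
  obtain ⟨n, hn⟩ := (Group.isSolvable_def _).mp hsol
  have hle : ∀ k, E ≤ derivedSeries (GL (Fin 3) K) k := by
    intro k
    induction k with
    | zero => rw [derivedSeries_zero]; exact le_top
    | succ k ih =>
      rw [derivedSeries_succ]
      exact hperf.trans (Subgroup.commutator_mono ih ih)
  obtain ⟨u, hu, -⟩ := unit 0 1 (by decide) 1
  have hu1 : u ∈ E := Subgroup.subset_closure ⟨0, 1, by decide, 1, hu⟩
  have h := hn ▸ hle n hu1
  rw [Subgroup.mem_bot] at h
  rw [h, Units.val_one] at hu
  have := congrFun (congrFun hu 0) 1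
  simp [Matrix.transvection] at this

/-- A subgroup with at most four cosets of a non-solvable group is not solvable. -/
theorem five_le_index {G : Type} [Group G] [Finite G] (hG : ¬ Group.IsSolvable G) (S : Subgroup G)
    [Group.IsSolvable S] : 5 ≤ S.index := by
  by_contra h
  push Not at h
  refine hG ?_
  haveI : Group.IsSolvable (Equiv.Perm (G ⧸ S)) :=
    SylowNum.isSolvable_perm_of_card_le_four (show Nat.card (G ⧸ S) ≤ 4 from Nat.lt_succ_iff.mp h)
  let φ := MulAction.toPermHom G (G ⧸ S)
  have hle : φ.ker ≤ S := fun g hg => by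
    have h1 : φ g ((1 : G) : G ⧸ S) = ((1 : G) : G ⧸ S) := by rw [MonoidHom.mem_ker.mp hg]; rfl
    have h2 : ((g * 1 : G) : G ⧸ S) = ((1 : G) : G ⧸ S) := h1
    rw [mul_one, QuotientGroup.eq, mul_one] at h2
    exact inv_mem_iff.mp h2
  exact Group.isSolvable_of_ker_le_range S.subtype φ (by rwa [Subgroup.range_subtype])

variable {H V : Type} [Group H] [AddCommGroup V] [DistribMulAction H V]

/-- Five triples built from a regular pair. -/
theorem five_of_pair {a b : V} (hreg : ∀ h : H, h • a = a → h • b = b → Triv V h)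
    (hV : ∃ v : V, v ≠ 0) :
    ∃ f : Fin 5 → Fin 3 → V, (∀ k, Reg3 H V (f k)) ∧ ∀ (h : H) k l, (∀ i, h • f k i = f l i) → k = l := by
  suffices key : ∀ x y : V, x ≠ 0 →
      ((∀ h : H, h • x = x → Triv V h) ∨
        ((∀ h : H, h • x = x → h • y = y → Triv V h) ∧ y ≠ 0 ∧ x ≠ y)) →
      ∃ f : Fin 5 → Fin 3 → V, (∀ k, Reg3 H V (f k)) ∧
        ∀ (h : H) k l, (∀ i, h • f k i = f l i) → k = l by
    by_cases ha : a = 0
    · subst ha
      have h1 : ∀ h : H, h • b = b → Triv V h := fun h hb => hreg h (smul_zero h) hb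
      by_cases hb : b = 0
      · subst hb
        obtain ⟨v, hv⟩ := hV
        exact key v v hv (Or.inl fun h _ => hreg h (smul_zero h) (smul_zero h))
      · exact key b b hb (Or.inl h1)
    · by_cases hb : b = 0
      · subst hb
        exact key a a ha (Or.inl fun h h1 => hreg h h1 (smul_zero h))
      · by_cases hab : a = b
        · subst hab
          exact key a a ha (Or.inl fun h h1 => hreg h h1 h1)
        · exact key a b ha (Or.inr ⟨hreg, hb, hab⟩)
  intro x y hx hxy
  rcases hxy with hreg1 | ⟨hreg2, hy, hne⟩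
  · refine ⟨![![x, 0, 0], ![0, x, 0], ![0, 0, x], ![x, x, 0], ![x, 0, x]], fun k h hfix => ?_, ?_⟩
    · fin_cases k
      · exact hreg1 h (hfix 0)
      · exact hreg1 h (hfix 1)
      · exact hreg1 h (hfix 2)
      · exact hreg1 h (hfix 0)
      · exact hreg1 h (hfix 0)
    · intro h k l hkl
      have e0 := hkl 0
      have e1 := hkl 1
      have e2 := hkl 2
      fin_cases k <;> fin_cases l <;>
        simp [smul_eq_zero_iff_eq, hx, hx.symm] at e0 e1 e2 ⊢
  · refine ⟨![![x, y, 0], ![x, 0, y], ![0, x, y], ![x, x, y], ![x, y, x]], fun k h hfix => ?_, ?_⟩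
    · fin_cases k
      · exact hreg2 h (hfix 0) (hfix 1)
      · exact hreg2 h (hfix 0) (hfix 2)
      · exact hreg2 h (hfix 1) (hfix 2)
      · exact hreg2 h (hfix 0) (hfix 2)
      · exact hreg2 h (hfix 0) (hfix 1)
    · intro h k l hkl
      have e0 := hkl 0
      have e1 := hkl 1
      have e2 := hkl 2
      fin_cases k <;> fin_cases l <;>
        simp [smul_eq_zero_iff_eq, hx, hx.symm, hy, hy.symm] at e0 e1 e2 ⊢
      all_goals first
        | exact hne (e0.symm.trans e1)
        | exact hne (e0.symm.trans e2)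
        | exact hne (smul_left_cancel h (e0.trans e1.symm))
        | exact hne (smul_left_cancel h (e0.trans e2.symm))

/-- An irreducible module with a regular triple has five inequivalent ones. -/
theorem five [Finite H] [Finite V] (hsol : Group.IsSolvable H) (hirr : Irr H V) {t : Fin 3 → V}
    (ht : Reg3 H V t) :
    ∃ f : Fin 5 → Fin 3 → V, (∀ k, Reg3 H V (f k)) ∧ ∀ (h : H) k l, (∀ i, h • f k i = f l i) → k = l := by
  classical
  obtain ⟨v0, hv0⟩ := hirr.1
  have hne1 : Nat.card V ≠ 1 := fun h => by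
    haveI := (Nat.card_eq_one_iff_unique.mp h).1
    exact hv0 (Subsingleton.elim _ _)
  obtain ⟨p, hp, hpd⟩ := Nat.exists_prime_and_dvd hne1
  haveI : Fact p.Prime := ⟨hp⟩
  have hexp : ∀ v : V, p • v = 0 := by
    let P : AddSubgroup V := (DistribSMul.toAddMonoidHom V p).ker
    have hP : Inv H V P := fun h x hx => by
      show p • (h • x) = 0
      exact ((DistribSMul.toAddMonoidHom V h).map_nsmul p x).symm.trans
        (by show h • (p • x) = 0; rw [show p • x = 0 from hx, smul_zero])
    rcases hirr.2 P hP with hb | ht'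
    · obtain ⟨w, hw⟩ := exists_prime_addOrderOf_dvd_card' (G := V) p hpd
      have h1 : w ∈ P := by show p • w = 0; rw [← hw]; exact addOrderOf_nsmul_eq_zero w
      rw [hb, AddSubgroup.mem_bot] at h1
      rw [h1, addOrderOf_zero] at hw
      exact absurd hw.symm hp.ne_one
    · exact fun v => (ht' ▸ AddSubgroup.mem_top v : v ∈ P)
  letI : Module (ZMod p) V := AddCommGroup.zmodModule hexp
  have hlinh : ∀ (h : H) (c : ZMod p) (v : V), h • (c • v) = c • (h • v) := fun h c v =>
    ZMod.map_smul (DistribMulAction.toAddMonoidHom V h) c v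
  let L : (Fin 3 → ZMod p) → V := fun c => ∑ i, c i • t i
  by_cases hrel : ∃ c : Fin 3 → ZMod p, c ≠ 0 ∧ L c = 0
  · obtain ⟨c, hc, hL⟩ := hrel
    obtain ⟨j, hj⟩ : ∃ j, c j ≠ 0 := by
      by_contra hno
      push Not at hno
      exact hc (funext hno)
    obtain ⟨a, b, hab⟩ : ∃ a b : Fin 3, ∀ i, i ≠ j → i = a ∨ i = b := by
      refine ⟨j + 1, j + 2, ?_⟩
      intro i
      fin_cases i <;> fin_cases j <;> decide
    refine five_of_pair (a := t a) (b := t b) (fun h ha hb => ht h ?_) hirr.1
    have hother : ∀ i, i ≠ j → h • t i = t i := fun i hi => by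
      rcases hab i hi with rfl | rfl
      · exact ha
      · exact hb
    intro i
    by_cases hi : i = j
    swap
    · exact hother i hi
    subst hi
    have h1 : h • L c - L c = 0 := by rw [hL, smul_zero, sub_zero]
    simp only [L, Finset.smul_sum, hlinh, ← Finset.sum_sub_distrib, ← smul_sub] at h1
    rw [Finset.sum_eq_single i (fun k _ hk => by rw [hother k hk, sub_self, smul_zero])
      (fun hk => absurd (Finset.mem_univ i) hk)] at h1
    exact sub_eq_zero.mp (by
      simpa [smul_smul, inv_mul_cancel₀ hj] using congrArg ((c i)⁻¹ • ·) h1)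
  push Not at hrel
  have hLinj : ∀ c d : Fin 3 → ZMod p, L c = L d → c = d := by
    intro c d hcd
    by_contra hne
    refine hrel (c - d) (sub_ne_zero.mpr hne) ?_
    simp only [L, Pi.sub_apply, sub_smul, Finset.sum_sub_distrib]
    exact sub_eq_zero.mpr hcd
  let act : (Fin 3 → V) → Matrix (Fin 3) (Fin 3) (ZMod p) → Fin 3 → V := fun s M j => ∑ i, M i j • s i
  have hactmul : ∀ s M M', act s (M * M') = act (act s M) M' := by
    intro s M M'
    funext j
    simp only [act, Matrix.mul_apply, Finset.sum_smul, Finset.smul_sum, smul_smul]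
    rw [Finset.sum_comm]
    exact Finset.sum_congr rfl fun k _ => Finset.sum_congr rfl fun i _ => by rw [mul_comm]
  have hact1 : ∀ s, act s 1 = s := by
    intro s
    funext j
    simp [act, Matrix.one_apply, Finset.sum_ite_eq', ite_smul]
  have hacth : ∀ (h : H) s M, (fun j => h • act s M j) = act (fun i => h • s i) M := by
    intro h s M
    funext j
    simp only [act, Finset.smul_sum, hlinh]
  have hactinj : ∀ M M', act t M = act t M' → M = M' := by
    intro M M' he
    ext i j
    exact congrFun (hLinj (fun i => M i j) (fun i => M' i j) (congrFun he j)) i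
  let D : Subgroup H :=
    { carrier := {h | ∃ M : GL (Fin 3) (ZMod p), (fun i => h • t i) = act t M}
      one_mem' := ⟨1, by rw [Units.val_one, hact1]; funext i; rw [one_smul]⟩
      mul_mem' := fun {a b} ha hb => by
        obtain ⟨M, hM⟩ := ha
        obtain ⟨M', hM'⟩ := hb
        refine ⟨M * M', ?_⟩
        rw [Units.val_mul, hactmul, ← hM, ← hacth, ← hM']
        funext i
        rw [mul_smul]
      inv_mem' := fun {a} ha => by
        obtain ⟨M, hM⟩ := ha
        refine ⟨M⁻¹, ?_⟩
        have h1 : act (fun i => a⁻¹ • t i) M = t := by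
          rw [← hacth]
          funext j
          rw [← congrFun hM j, inv_smul_smul]
        have h2 : act (act (fun i => a⁻¹ • t i) M) ((M⁻¹ : GL (Fin 3) (ZMod p))) =
            fun i => a⁻¹ • t i := by
          rw [← hactmul, ← Units.val_mul, mul_inv_cancel, Units.val_one, hact1]
        rw [h1] at h2
        exact h2.symm }
  haveI : Group.IsSolvable H := hsol
  have hDex : ∀ h : D, ∃ M : GL (Fin 3) (ZMod p), (fun i => (h : H) • t i) = act t M := fun h => h.2
  choose mat hmat using hDex
  let f : D →* GL (Fin 3) (ZMod p) := MonoidHom.mk' mat fun a b => Units.ext (hactinj _ _ (by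
    rw [Units.val_mul, hactmul, ← hmat a, ← hacth, ← hmat b, ← hmat (a * b)]
    funext i
    rw [Subgroup.coe_mul, mul_smul]))
  haveI : Group.IsSolvable f.range := Group.isSolvable_of_surjective f.rangeRestrict_surjective
  have h5 := five_le_index (not_solvable_gl3 (ZMod p)) f.range
  haveI : Fintype (GL (Fin 3) (ZMod p) ⧸ f.range) := Fintype.ofFinite _
  obtain ⟨e⟩ : Nonempty (Fin 5 ↪ GL (Fin 3) (ZMod p) ⧸ f.range) :=
    Function.Embedding.nonempty_of_card_le (by
      rw [Fintype.card_fin, ← Nat.card_eq_fintype_card]; exact h5)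
  refine ⟨fun k => act t ((e k).out⁻¹ : GL (Fin 3) (ZMod p)), fun k h hfix => ?_, fun h k l hkl => ?_⟩
  · refine ht h fun i => ?_
    have h1 : act (fun i => h • t i) ((e k).out⁻¹ : GL (Fin 3) (ZMod p)) =
        act t ((e k).out⁻¹ : GL (Fin 3) (ZMod p)) := by
      rw [← hacth]; exact funext hfix
    have h2 := congrArg (fun s => act s ((e k).out : GL (Fin 3) (ZMod p))) h1
    rw [← hactmul, ← hactmul, ← Units.val_mul, inv_mul_cancel, Units.val_one, hact1, hact1] at h2
    exact congrFun h2 i
  · have h1 : act (fun i => h • t i) ((e k).out⁻¹ : GL (Fin 3) (ZMod p)) =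
        act t ((e l).out⁻¹ : GL (Fin 3) (ZMod p)) := by
      rw [← hacth]; exact funext hkl
    have h2 := congrArg (fun s => act s ((e k).out : GL (Fin 3) (ZMod p))) h1
    rw [← hactmul, ← hactmul, ← Units.val_mul, ← Units.val_mul, inv_mul_cancel, Units.val_one,
      hact1] at h2
    have hmem : h ∈ D := ⟨(e l).out⁻¹ * (e k).out, h2⟩
    have h3 : f ⟨h, hmem⟩ = (e l).out⁻¹ * (e k).out :=
      Units.ext (hactinj _ _ ((hmat ⟨h, hmem⟩).symm.trans h2))
    refine (e.injective ?_).symm
    rw [← QuotientGroup.out_eq' (e k), ← QuotientGroup.out_eq' (e l), QuotientGroup.eq, ← h3]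
    exact ⟨_, rfl⟩

end Cfsg.Agent.BC85.BaseThree
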