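import Mathlib
import Cfsg.Agent.BC85.BaseTwo.Pairing

/-!
# A frame vector for the symplectic section
-/

set_option autoImplicit false

namespace Cfsg.Agent.BC85.BaseThree

open scoped commutatorElement
open BaseTwo Polynomial

/-- Powers of a product of two elements with central commutator. -/
theorem mul_pow_central {G : Type} [Group G] {a b z : G} (h : b * a = z * a * b)
    (hza : Commute z a) (hzb : Commute z b) (n : ℕ) :
    (a * b) ^ n = z ^ n.choose 2 * a ^ n * b ^ n := by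
  have hb : ∀ n : ℕ, b ^ n * a = z ^ n * a * b ^ n := by
    intro n
    induction n with
    | zero => simp
    | succ n ih =>
      calc b ^ (n + 1) * a = b * (b ^ n * a) := by rw [pow_succ', mul_assoc]
        _ = b * (z ^ n * a * b ^ n) := by rw [ih]
        _ = z ^ n * (b * a) * b ^ n := by
          rw [← mul_assoc, ← mul_assoc, ← (hzb.pow_left n).eq]; group
        _ = _ := by rw [h, pow_succ z, pow_succ' b]; group
  induction n with
  | zero => simp
  | succ n ih =>
    calc (a * b) ^ (n + 1) = z ^ n.choose 2 * a ^ n * b ^ n * (a * b) := by rw [pow_succ, ih]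
      _ = z ^ n.choose 2 * a ^ n * (b ^ n * a) * b := by group
      _ = z ^ n.choose 2 * (a ^ n * z ^ n) * a * b ^ n * b := by rw [hb]; group
      _ = z ^ n.choose 2 * (z ^ n * a ^ n) * a * b ^ n * b := by
          rw [((hza.pow_left n).pow_right n).eq]
      _ = z ^ (n.choose 2 + n) * (a ^ n * a) * (b ^ n * b) := by rw [pow_add]; group
      _ = _ := by
          rw [← pow_succ, ← pow_succ, Nat.choose_succ_succ n 1, Nat.choose_one_right, add_comm]

/-- A product of non-powers is a power in a finite field. -/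
theorem exists_pow_mul_eq_pow {K : Type} [Field K] [Finite K] {r : ℕ} (hr : r.Prime) {α : Kˣ}
    (hα : ∀ d : Kˣ, α ≠ d ^ r) (β : Kˣ) : ∃ (i : ℕ) (d : Kˣ), α ^ i * β = d ^ r := by
  obtain ⟨g, hg⟩ := IsCyclic.exists_monoid_generator (α := Kˣ)
  obtain ⟨a, rfl⟩ := Submonoid.mem_powers_iff _ _ |>.mp (hg α)
  obtain ⟨b, rfl⟩ := Submonoid.mem_powers_iff _ _ |>.mp (hg β)
  haveI : Fact r.Prime := ⟨hr⟩
  have ha : (a : ZMod r) ≠ 0 := by
    intro h
    obtain ⟨t, rfl⟩ := (ZMod.natCast_eq_zero_iff a r).mp h |> fun h => (h : r ∣ a)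
    exact hα (g ^ t) (by rw [← pow_mul, mul_comm])
  refine ⟨(-(b : ZMod r) / (a : ZMod r)).val, ?_⟩
  obtain ⟨t, ht⟩ : r ∣ a * (-(b : ZMod r) / (a : ZMod r)).val + b := by
    rw [← ZMod.natCast_eq_zero_iff, Nat.cast_add, Nat.cast_mul, ZMod.natCast_zmod_val,
      mul_div_cancel₀ _ ha, neg_add_cancel]
  exact ⟨g ^ t, by rw [← pow_mul, ← pow_add, ht, ← pow_mul, mul_comm]⟩

/-- A split equation satisfied at a vector of an invariant set gives an eigenvector in the set. -/
theorem exists_eigen {K W : Type} [Field K] [AddCommGroup W] [Module K W] (S : W →ₗ[K] W)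
    (E : Submodule K W) (hE : ∀ x ∈ E, S x ∈ E) {r : ℕ} (hr : 0 < r) {ζ c : K}
    (hζ : IsPrimitiveRoot ζ r) {x : W} (hx : x ∈ E) (hx0 : x ≠ 0) (hS : (S ^ r) x = c ^ r • x) :
    ∃ (d : K) (y : W), y ∈ E ∧ y ≠ 0 ∧ S y = d • y := by
  have h0 : aeval S (∏ i ∈ Finset.range r, (X - C (ζ ^ i * c))) x = 0 := by
    rw [← X_pow_sub_C_eq_prod hζ hr rfl, map_sub, map_pow, aeval_X, aeval_C, LinearMap.sub_apply,
      Module.algebraMap_end_apply, hS, sub_self]
  clear hS
  revert h0
  induction Finset.range r using Finset.induction_on generalizing x with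
  | empty =>
    intro h0
    simp at h0
    exact absurd h0 hx0
  | insert a s ha ih =>
    intro h0
    rw [Finset.prod_insert ha, mul_comm, map_mul] at h0
    by_cases hy : S x - (ζ ^ a * c) • x = 0
    · exact ⟨_, x, hx, hx0, sub_eq_zero.mp hy⟩
    · refine ih (E.sub_mem (hE x hx) (E.smul_mem _ hx)) hy ?_
      rwa [Module.End.mul_apply, map_sub, aeval_X, aeval_C, LinearMap.sub_apply,
        Module.algebraMap_end_apply] at h0

section

variable {H V K : Type} [Group H] [AddCommGroup V] [DistribMulAction H V] [Field K] [Module K V]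

/-- The elements of `N` having `v` as eigenvector. -/
def line (N : Subgroup H) (hlN : ∀ n ∈ N, ∀ (k : K) (x : V), n • k • x = k • n • x) (v : V) :
    Subgroup H where
  carrier := {n | n ∈ N ∧ ∃ c : K, n • v = c • v}
  one_mem' := ⟨N.one_mem, 1, by rw [one_smul, one_smul]⟩
  mul_mem' := by
    rintro a b ⟨ha, c, hc⟩ ⟨hb, d, hd⟩
    exact ⟨N.mul_mem ha hb, d * c, by rw [mul_smul, hd, hlN a ha, hc, smul_smul]⟩
  inv_mem' := by
    rintro a ⟨ha, c, hc⟩
    refine ⟨N.inv_mem ha, c⁻¹, ?_⟩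
    have h1 : v = c • a⁻¹ • v := by rw [← hlN _ (N.inv_mem ha), ← hc, inv_smul_smul]
    by_cases h0 : c = 0
    · rw [h0, zero_smul] at h1
      rw [h1, smul_zero, smul_zero]
    · conv_rhs => rw [h1, inv_smul_smul₀ h0]

theorem mem_line {N : Subgroup H} {hlN : ∀ n ∈ N, ∀ (k : K) (x : V), n • k • x = k • n • x}
    {v : V} {n : H} : n ∈ line N hlN v ↔ n ∈ N ∧ ∃ c : K, n • v = c • v := Iff.rfl

end

section

variable {H V K : Type} [Group H] [Finite H] [AddCommGroup V] [Finite V] [DistribMulAction H V]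
  [Field K] [Finite K] [Module K V]
variable (U : Subgroup H) [U.Normal] (ι : U →* Kˣ)

/-- The prime divisors of the orders in the section appear once. -/
theorem pow_mem_of_sq {N : Subgroup H} (hN : IsSec U N) {n : H} (hn : n ∈ N) (r : ℕ)
    (h : n ^ (r * r) ∈ U) : n ^ r ∈ U := by
  set π := QuotientGroup.mk' U with hπ
  have hmem : ∀ a : H, π a = 1 ↔ a ∈ U := fun a => QuotientGroup.eq_one_iff a
  have hcomm : ∀ a ∈ N, ∀ b ∈ N, Commute (π a) (π b) := fun a ha b hb => by
    rw [← commutatorElement_eq_one_iff_commute, ← map_commutatorElement, hmem]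
    exact hN.comm a ha b hb
  let W : Subgroup H :=
    { carrier := {a | a ∈ N ∧ a ^ r ∈ U}
      one_mem' := ⟨N.one_mem, by rw [one_pow]; exact U.one_mem⟩
      mul_mem' := fun {a b} ha hb => ⟨N.mul_mem ha.1 hb.1, by
        rw [← hmem, map_pow, map_mul, (hcomm a ha.1 b hb.1).mul_pow, ← map_pow, ← map_pow,
          (hmem _).mpr ha.2, (hmem _).mpr hb.2, mul_one]⟩
      inv_mem' := fun {a} ha => ⟨N.inv_mem ha.1, by rw [inv_pow]; exact U.inv_mem ha.2⟩ }
  have hWn : W.Normal := ⟨fun a ha g => ⟨hN.normal.conj_mem a ha.1 g, by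
    rw [conj_pow]; exact (inferInstance : U.Normal).conj_mem _ ha.2 g⟩⟩
  obtain ⟨W', hW'n, hUW', hW'N, hinf, hsup⟩ := hN.compl W hWn
    (fun u hu => ⟨hN.le hu, U.pow_mem hu r⟩) (fun a ha => ha.1)
  haveI := hW'n
  obtain ⟨w, hw, w', hw', rfl⟩ := Subgroup.mem_sup_of_normal_right.mp (hsup.symm ▸ hn : n ∈ W ⊔ W')
  have h1 : π ((w * w') ^ r) = π (w' ^ r) := by
    rw [map_pow, map_mul, (hcomm w hw.1 w' (hW'N hw')).mul_pow, ← map_pow, ← map_pow,
      (hmem _).mpr hw.2, one_mul]
  have h2 : w' ^ r ∈ W ⊓ W' := by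
    refine ⟨⟨hW'N (W'.pow_mem hw' r), ?_⟩, W'.pow_mem hw' r⟩
    rw [← hmem, map_pow, ← h1, ← map_pow, ← pow_mul, hmem]
    exact h
  rw [hinf] at h2
  rw [← hmem, h1, hmem]
  exact h2

/-- The orders in the section are square-free. -/
theorem exists_squarefree {N : Subgroup H} (hN : IsSec U N) {n : H} (hn : n ∈ N) :
    ∃ e : ℕ, 0 < e ∧ Squarefree e ∧ n ^ e ∈ U := by
  set π := QuotientGroup.mk' U
  have hiff : ∀ k : ℕ, n ^ k ∈ U ↔ orderOf (π n) ∣ k := fun k => by
    rw [orderOf_dvd_iff_pow_eq_one, ← map_pow]; exact (QuotientGroup.eq_one_iff _).symm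
  refine ⟨orderOf (π n), orderOf_pos _, ?_, (hiff _).mpr dvd_rfl⟩
  rw [Nat.squarefree_iff_prime_squarefree]
  rintro r hr ⟨t, ht⟩
  have h1 : (n ^ t) ^ r ∈ U := by
    refine pow_mem_of_sq U hN (N.pow_mem hn t) r ?_
    rw [← pow_mul, hiff, ht, mul_comm t]
  rw [← pow_mul, hiff, ht, mul_comm t r, mul_assoc] at h1
  have ht0 : 0 < t := Nat.pos_of_ne_zero fun h => by
    rw [h, mul_zero] at ht
    exact (orderOf_pos (π n)).ne' ht
  have := Nat.le_of_dvd (Nat.mul_pos hr.pos ht0) h1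
  have := hr.two_le
  nlinarith [Nat.mul_pos hr.pos ht0]

/-- A vector whose line stabiliser has a centraliser moving it inside a plane. -/
theorem exists_frame (hι : Function.Injective ι)
    (hιv : ∀ (u : U) (v : V), (u : H) • v = (ι u : K) • v)
    (N : Subgroup H) (hN : IsSec U N)
    (hlN : ∀ n ∈ N, ∀ (k : K) (x : V), n • k • x = k • n • x) (hV : ∃ v : V, v ≠ 0) :
    ∃ v : V, v ≠ 0 ∧ (∀ a ∈ line N hlN v, ∀ b ∈ line N hlN v, a * b = b * a) ∧
      ∃ p ∈ N, (∀ a ∈ line N hlN v, a * p = p * a) ∧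
        ∀ y ∈ N, (∀ a ∈ line N hlN v, a * y = y * a) →
          y • v ∈ Submodule.span K ({v, p • v} : Set V) := by
  classical
  have hcenU : ∀ u ∈ U, ∀ y ∈ N, u * y = y * u := fun u hu y hy =>
    Subgroup.mem_centralizer_iff.mp (hN.cen hy) u hu
  have habel : ∀ w : V, w ≠ 0 → ∀ a ∈ line N hlN w, ∀ b ∈ line N hlN w, a * b = b * a := by
    rintro w hw a ⟨ha, c, hc⟩ b ⟨hb, d, hd⟩
    set z : U := ⟨⁅a, b⁆, hN.comm a ha b hb⟩
    have e : (z : H) * (b * a) = a * b := by
      show ⁅a, b⁆ * (b * a) = a * b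
      simp only [commutatorElement_def]; group
    have h1 : ((a * b : H)) • w = (c * d) • w := by
      rw [mul_smul, hd, hlN a ha, hc, smul_smul, mul_comm]
    rw [← e, mul_smul, hιv, mul_smul, hc, hlN b hb, hd, smul_smul, smul_smul, ← sub_eq_zero,
      ← sub_smul] at h1
    have h2 : ((ι z : K) - 1) * (c * d) = 0 := by
      have := (smul_eq_zero.mp h1).resolve_right hw
      rw [sub_mul, one_mul]
      linear_combination this
    have hcd : c * d ≠ 0 := by
      intro h
      rcases mul_eq_zero.mp h with h | h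
      · rw [h, zero_smul, smul_eq_zero_iff_eq] at hc; exact hw hc
      · rw [h, zero_smul, smul_eq_zero_iff_eq] at hd; exact hw hd
    have h3 : ι z = 1 := Units.ext (sub_eq_zero.mp ((mul_eq_zero.mp h2).resolve_right hcd))
    exact commutatorElement_eq_one_iff_mul_comm.mp
      (congrArg Subtype.val (hι (h3.trans (map_one ι).symm)) : ⁅a, b⁆ = 1)
  haveI : Nonempty {w : V // w ≠ 0} := let ⟨w, hw⟩ := hV; ⟨⟨w, hw⟩⟩
  obtain ⟨⟨v, hv⟩, hmax⟩ := Finite.exists_max fun w : {w : V // w ≠ 0} => Nat.card (line N hlN w.1)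
  set A := line N hlN v with hA
  have hAN : A ≤ N := fun a ha => ha.1
  have hUA : U ≤ A := fun u hu => ⟨hN.le hu, _, hιv ⟨u, hu⟩ v⟩
  have hAC : A ≤ Subgroup.centralizer (U : Set H) := hAN.trans hN.cen
  let Y : Subgroup H := Subgroup.centralizer (A : Set H) ⊓ N
  have hYmem : ∀ y, y ∈ Y ↔ y ∈ N ∧ ∀ a ∈ A, a * y = y * a := fun y =>
    ⟨fun h => ⟨h.2, Subgroup.mem_centralizer_iff.mp h.1⟩,
      fun h => ⟨Subgroup.mem_centralizer_iff.mpr h.2, h.1⟩⟩
  have hAY : A ≤ Y := fun a ha => (hYmem a).mpr ⟨hAN ha, fun b hb => habel v hv b hb a ha⟩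
  have hYN : Y ≤ N := inf_le_right
  have hUY : U ≤ Y := hUA.trans hAY
  have hsubn : ∀ B : Subgroup H, U ≤ B → B ≤ N → (B.subgroupOf N).Normal := by
    intro B hUB hBN
    refine ⟨fun x hx y => ?_⟩
    rw [Subgroup.mem_subgroupOf] at hx ⊢
    have h2 : (y : H) * x * (y : H)⁻¹ = ⁅(y : H), (x : H)⁆ * x := by
      simp only [commutatorElement_def]; group
    show (y : H) * x * (y : H)⁻¹ ∈ B
    rw [h2]
    exact B.mul_mem (hUB (hN.comm y y.2 x x.2)) hx
  have hUinf : ∀ P : Subgroup H, U ≤ P → P ≤ N → Subgroup.centralizer (N : Set H) ⊓ P = U := by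
    intro P hUP hPN
    refine le_antisymm (fun g hg => hN.centre g (hN.cen (hPN hg.2)) fun y hy =>
      (Subgroup.mem_centralizer_iff.mp hg.1 y hy).symm) (le_inf (fun u hu => ?_) hUP)
    exact Subgroup.mem_centralizer_iff.mpr fun y hy => (hcenU u hu y hy).symm
  -- double centralisers
  let D : Subgroup H := Subgroup.centralizer (Y : Set H) ⊓ N
  have hAD : A ≤ D := fun a ha => ⟨Subgroup.mem_centralizer_iff.mpr fun y hy =>
    (((hYmem y).mp hy).2 a ha).symm, hAN ha⟩
  have hDA : D ≤ A := by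
    have hYC : Y ≤ Subgroup.centralizer (U : Set H) := hYN.trans hN.cen
    have h1 := relIndex_centralizer_le U ι hι N A U hN.cen hAC
      (fun a ha b hb => hN.comm a ha b (hAN hb)) hUA (Subgroup.Normal.subgroupOf inferInstance A)
      (fun a ha u hu => (hcenU u hu a ha).symm)
    have h2 := relIndex_centralizer_le U ι hι Y N D hYC hN.cen
      (fun a ha b hb => hN.comm a (hYN ha) b hb) inf_le_right (hsubn D (hUA.trans hAD) inf_le_right)
      (fun a ha b hb => Subgroup.mem_centralizer_iff.mp hb.1 a ha)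
    rw [← Subgroup.inf_relIndex_right] at h1
    rw [← Subgroup.inf_relIndex_right, hUinf Y hUY hYN] at h2
    have e1 := Subgroup.relIndex_mul_relIndex U Y N hUY hYN
    have e2 := Subgroup.relIndex_mul_relIndex U A N hUA hAN
    have e3 := Subgroup.relIndex_mul_relIndex A D N hAD inf_le_right
    have pA : 0 < U.relIndex A := Nat.pos_of_ne_zero Subgroup.index_ne_zero_of_finite
    have pY : 0 < U.relIndex Y := Nat.pos_of_ne_zero Subgroup.index_ne_zero_of_finite
    have pD : 0 < A.relIndex D := Nat.pos_of_ne_zero Subgroup.index_ne_zero_of_finite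
    change Y.relIndex N ≤ _ at h1
    refine Subgroup.relIndex_eq_one.mp (le_antisymm ?_ pD)
    have h4 : U.relIndex A * (A.relIndex D * D.relIndex N) ≤ U.relIndex A * D.relIndex N := by
      rw [e3, e2, ← e1]
      calc U.relIndex Y * Y.relIndex N ≤ D.relIndex N * U.relIndex A := Nat.mul_le_mul h2 h1
        _ = _ := mul_comm _ _
    have h5 := Nat.le_of_mul_le_mul_left h4 pA
    refine Nat.le_of_mul_le_mul_right ?_ (Nat.pos_of_ne_zero
      (Subgroup.index_ne_zero_of_finite : D.relIndex N ≠ 0))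
    rwa [one_mul]
  -- the eigenspace
  have hχex : ∀ a : A, ∃ c : K, (a : H) • v = c • v := fun a => a.2.2
  choose χ hχ using hχex
  let E : Submodule K V :=
    { carrier := {x | ∀ a : A, (a : H) • x = χ a • x}
      zero_mem' := fun a => by rw [smul_zero, smul_zero]
      add_mem' := fun {x y} hx hy a => by rw [smul_add, smul_add, hx a, hy a]
      smul_mem' := fun k x hx a => by rw [hlN a (hAN a.2), hx a, smul_comm] }
  have hvE : v ∈ E := hχ
  have hlineE : ∀ x ∈ E, x ≠ 0 → line N hlN x = A := by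
    intro x hx hx0
    have hle : A ≤ line N hlN x := fun a ha => ⟨hAN ha, χ ⟨a, ha⟩, hx ⟨a, ha⟩⟩
    exact (Subgroup.eq_of_le_of_card_ge hle (hmax ⟨x, hx0⟩)).symm
  have hnoeig : ∀ y ∈ Y, y ∉ A → ∀ x ∈ E, x ≠ 0 → ∀ c : K, y • x ≠ c • x :=
    fun y hy hyA x hx hx0 c h => hyA (hlineE x hx hx0 ▸ ⟨hYN hy, c, h⟩)
  have hEinv : ∀ y ∈ Y, ∀ x ∈ E, y • x ∈ E := by
    intro y hy x hx a
    rw [← mul_smul, ((hYmem y).mp hy).2 a a.2, mul_smul, hx a, hlN y (hYN hy)]
  have hχne : ∀ a : A, χ a ≠ 0 := by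
    intro a h
    have := hχ a
    rw [h, zero_smul, smul_eq_zero_iff_eq] at this
    exact hv this
  let χu : A → Kˣ := fun a => Units.mk0 (χ a) (hχne a)
  have hχmul : ∀ a b : A, χ (a * b) = χ a * χ b := by
    intro a b
    have h := hχ (a * b)
    rw [Subgroup.coe_mul, mul_smul, hχ b, hlN a (hAN a.2), hχ a, smul_smul, ← sub_eq_zero,
      ← sub_smul, smul_eq_zero] at h
    have := h.resolve_right hv
    linear_combination -this
  -- scalars of elements of prime order
  have hnonpow : ∀ (r : ℕ) (ζ : K), 0 < r → IsPrimitiveRoot ζ r → ∀ y ∈ Y, y ∉ A →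
      ∀ hy : y ^ r ∈ A, ∀ d : Kˣ, χu ⟨y ^ r, hy⟩ ≠ d ^ r := by
    intro r ζ hr hζ y hy hyA hyr d hd
    let S : V →ₗ[K] V :=
      { toFun := fun x => y • x
        map_add' := smul_add y
        map_smul' := fun k x => hlN y (hYN hy) k x }
    have hpow : ∀ (n : ℕ) (x : V), (S ^ n) x = y ^ n • x := by
      intro n
      induction n with
      | zero => intro x; rw [pow_zero, pow_zero, one_smul]; rfl
      | succ n ih => intro x; rw [pow_succ, Module.End.mul_apply, ih, pow_succ, mul_smul]; rfl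
    obtain ⟨c, x, hxE, hx0, hx⟩ := exists_eigen S E (hEinv y hy) hr (c := (d : K)) hζ hvE hv (by
      rw [hpow, ← Units.val_pow_eq_pow_val, ← hd]
      exact hχ ⟨y ^ r, hyr⟩)
    exact hnoeig y hy hyA x hxE hx0 c hx
  have hprim : ∀ (r : ℕ), r.Prime → ∀ z : U, z ≠ 1 → z ^ r = 1 → IsPrimitiveRoot (ι z : K) r := by
    intro r hr z hz hzr
    haveI : Fact r.Prime := ⟨hr⟩
    have := IsPrimitiveRoot.orderOf (ι z)
    rw [orderOf_injective ι hι, orderOf_eq_prime hzr hz] at this
    exact (IsPrimitiveRoot.coe_units_iff).mpr this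
  have hcentral : ∀ a ∈ A, ∀ y ∈ Y, a * y = y * a := fun a ha y hy => ((hYmem y).mp hy).2 a ha
  -- commutators in `Y`
  have hcommpow : ∀ a ∈ N, ∀ b ∈ N, ∀ n : ℕ, ⁅a, b⁆ ^ n = ⁅a, b ^ n⁆ := by
    intro a ha b hb n
    induction n with
    | zero => rw [pow_zero, pow_zero, commutatorElement_one_right]
    | succ n ih =>
      have hc := hcenU _ (hN.comm a ha b hb) (b ^ n) (N.pow_mem hb n)
      have e : ⁅a, b ^ (n + 1)⁆ = ⁅a, b ^ n⁆ * (b ^ n * ⁅a, b⁆ * (b ^ n)⁻¹) := by
        simp only [commutatorElement_def, pow_succ]; group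
      rw [e, ← hc, mul_inv_cancel_right, ← ih, pow_succ]
  -- squares lie in `A`
  have hsq : ∀ y ∈ Y, y ^ 2 ∈ A := by
    have hpr : ∀ r : ℕ, r.Prime → r ≠ 2 → ∀ y ∈ Y, y ^ r ∈ A → y ∈ A := by
      intro r hr hr2 y hy hyr
      by_contra hyA
      obtain ⟨y', hy', hne⟩ : ∃ y' ∈ Y, y' * y ≠ y * y' := by
        by_contra h
        push Not at h
        exact hyA (hDA ⟨Subgroup.mem_centralizer_iff.mpr h, hYN hy⟩)
      obtain ⟨e, he0, hesf, heU⟩ := exists_squarefree U hN (hYN hy')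
      set z0 := ⁅y', y⁆ with hz0
      have hz0U : z0 ∈ U := hN.comm _ (hYN hy') _ (hYN hy)
      have hz01 : z0 ≠ 1 := fun h => hne (commutatorElement_eq_one_iff_mul_comm.mp h)
      have hz0r : z0 ^ r = 1 := by
        rw [hz0, hcommpow _ (hYN hy') _ (hYN hy), commutatorElement_eq_one_iff_mul_comm]
        exact (hcentral _ hyr y' hy').symm
      have hz0e : z0 ^ e = 1 := by
        rw [hz0, ← commutatorElement_inv, inv_pow, hcommpow _ (hYN hy) _ (hYN hy'), inv_eq_one,
          commutatorElement_eq_one_iff_mul_comm]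
        exact (hcenU _ heU y (hYN hy)).symm
      haveI : Fact r.Prime := ⟨hr⟩
      have hord : orderOf z0 = r := orderOf_eq_prime hz0r hz01
      obtain ⟨m, rfl⟩ : r ∣ e := hord ▸ orderOf_dvd_of_pow_eq_one hz0e
      have hrm : ¬ r ∣ m := fun h => hr.ne_one (Nat.isUnit_iff.mp (hesf r (mul_dvd_mul_left r h)))
      set b := y' ^ m with hb
      have hbY : b ∈ Y := Y.pow_mem hy' m
      have hbr : b ^ r ∈ A := hUA (by rw [hb, ← pow_mul, mul_comm]; exact heU)
      set z : U := ⟨⁅b, y⁆, hN.comm _ (hYN hbY) _ (hYN hy)⟩ with hz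
      have hzval : ⁅b, y⁆ = z0 ^ m := by
        rw [hz0, ← commutatorElement_inv y y', inv_pow, hcommpow _ (hYN hy) _ (hYN hy'),
          commutatorElement_inv]
      have hz1 : z ≠ 1 := fun h => hrm (hord ▸ orderOf_dvd_of_pow_eq_one
        (hzval ▸ congrArg Subtype.val h))
      have hzr : z ^ r = 1 := Subtype.ext (by
        show ⁅b, y⁆ ^ r = 1
        rw [hzval, ← pow_mul, mul_comm, pow_mul, hz0r, one_pow])
      have hζ := hprim r hr z hz1 hzr
      obtain ⟨i, d, hd⟩ := exists_pow_mul_eq_pow hr (hnonpow r _ hr.pos hζ y hy hyA hyr)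
        (χu ⟨b ^ r, hbr⟩)
      set a := y ^ i with ha
      have hab : a * b ∉ A := fun h => by
        have h1 := hcentral _ h y hy
        have h2 : a * (b * y) = a * (y * b) := by
          rw [← mul_assoc, h1, ← mul_assoc, ha, (Commute.self_pow y i).eq, mul_assoc]
        exact hz1 (Subtype.ext (commutatorElement_eq_one_iff_mul_comm.mpr (mul_left_cancel h2)))
      set w := ⁅b, a⁆ with hw
      have hwU : w ∈ U := hN.comm _ (hYN hbY) _ (N.pow_mem (hYN hy) i)
      have hwr : w ^ r.choose 2 = 1 := by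
        obtain ⟨t, ht⟩ := hr.dvd_choose_self (k := 2) (by norm_num)
          (lt_of_le_of_ne hr.two_le (Ne.symm hr2))
        have : w ^ r = 1 := by
          rw [hw, hcommpow _ (hYN hbY) _ (N.pow_mem (hYN hy) i),
            commutatorElement_eq_one_iff_mul_comm, ← pow_mul, mul_comm i r, pow_mul]
          exact (hcentral _ (A.pow_mem hyr i) b hbY).symm
        rw [ht, pow_mul, this, one_pow]
      have hmul := mul_pow_central (a := a) (b := b) (z := w)
        (by rw [hw]; simp only [commutatorElement_def]; group)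
        (hcenU w hwU a (N.pow_mem (hYN hy) i)) (hcenU w hwU b (hYN hbY)) r
      rw [hwr, one_mul, ha, ← pow_mul, mul_comm i r, pow_mul] at hmul
      have habr : (a * b) ^ r ∈ A := by
        rw [ha, hmul]; exact A.mul_mem (A.pow_mem hyr i) hbr
      refine hnonpow r _ hr.pos hζ (a * b) (Y.mul_mem (Y.pow_mem hy i) hbY) hab habr d ?_
      rw [← hd]
      apply Units.ext
      simp only [χu, Units.val_mk0, Units.val_mul, Units.val_pow_eq_pow_val]
      have hpow : ∀ (k : ℕ) (x : A), χ (x ^ k) = χ x ^ k := by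
        intro k
        induction k with
        | zero =>
          intro x
          have := hχmul 1 1
          rw [mul_one] at this
          rw [pow_zero, pow_zero]
          exact (mul_eq_left₀ (hχne 1)).mp this.symm
        | succ k ih => intro x; rw [pow_succ, pow_succ, hχmul, ih]
      rw [← hpow, ← hχmul]
      exact congrArg χ (Subtype.ext (by show (a * b) ^ r = _; rw [ha, hmul]; rfl))
    intro y hy
    obtain ⟨e, he0, hesf, heU⟩ := exists_squarefree U hN (hYN hy)
    have key : ∀ k : ℕ, 0 < k → Squarefree k → y ^ k ∈ A → y ^ 2 ∈ A := by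
      intro k
      induction k using Nat.strong_induction_on with
      | _ k ih =>
        intro hk hsf hyk
        by_cases hall : ∀ q, q.Prime → q ∣ k → q = 2
        · have h12 : k ∣ 2 := by
            rcases eq_or_ne k 1 with rfl | hk1
            · exact one_dvd 2
            · obtain ⟨q, hq, hqk⟩ := Nat.exists_prime_and_dvd hk1
              obtain ⟨t, rfl⟩ := hqk
              have hq2 := hall q hq (dvd_mul_right q t)
              subst hq2
              have ht : t = 1 := by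
                by_contra ht
                obtain ⟨s, hs, hst⟩ := Nat.exists_prime_and_dvd ht
                have := hall s hs (dvd_mul_of_dvd_right hst 2)
                subst this
                exact absurd (Nat.isUnit_iff.mp (hsf 2 (mul_dvd_mul_left 2 hst))) (by norm_num)
              rw [ht, mul_one]
          obtain ⟨t, ht⟩ := h12
          rw [ht, pow_mul]
          exact A.pow_mem hyk t
        · push Not at hall
          obtain ⟨q, hq, ⟨t, rfl⟩, hq2⟩ := hall
          have htpos : 0 < t := Nat.pos_of_mul_pos_left hk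
          refine ih t (lt_mul_of_one_lt_left htpos hq.one_lt) htpos
            (hsf.squarefree_of_dvd (dvd_mul_left t q)) ?_
          refine hpr q hq hq2 (y ^ t) (Y.pow_mem hy t) ?_
          rw [← pow_mul, mul_comm]
          exact hyk
    exact key e he0 hesf (hUA heU)
  by_cases hYA : Y ≤ A
  · refine ⟨v, hv, habel v hv, 1, N.one_mem, fun a _ => by rw [mul_one, one_mul], fun y hy hya => ?_⟩
    obtain ⟨c, hc⟩ := (hYA ((hYmem y).mpr ⟨hy, hya⟩)).2
    rw [hc]
    exact Submodule.smul_mem _ _ (Submodule.subset_span (Set.mem_insert _ _))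
  obtain ⟨p1, hp1, hp1A⟩ := SetLike.not_le_iff_exists.mp hYA
  obtain ⟨p2, hp2, hne⟩ : ∃ p2 ∈ Y, p2 * p1 ≠ p1 * p2 := by
    by_contra h
    push Not at h
    exact hp1A (hDA ⟨Subgroup.mem_centralizer_iff.mpr h, hYN hp1⟩)
  have hp2A : p2 ∉ A := fun h => hne (hcentral p2 h p1 hp1)
  have hsign : ∀ a ∈ Y, ∀ b ∈ Y, a * b = b * a ∨
      ∃ hz : ⁅a, b⁆ ∈ U, (ι ⟨_, hz⟩ : K) = -1 := by
    intro a ha b hb
    by_cases h : a * b = b * a
    · exact Or.inl h
    refine Or.inr ⟨hN.comm a (hYN ha) b (hYN hb), ?_⟩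
    set z : U := ⟨⁅a, b⁆, hN.comm a (hYN ha) b (hYN hb)⟩
    have hz2 : z ^ 2 = 1 := Subtype.ext (by
      show ⁅a, b⁆ ^ 2 = 1
      rw [hcommpow a (hYN ha) b (hYN hb), commutatorElement_eq_one_iff_mul_comm]
      exact (hcentral _ (hsq b hb) a ha).symm)
    have h1 : (ι z : K) ^ 2 = 1 := by
      rw [← Units.val_pow_eq_pow_val, ← map_pow, hz2, map_one, Units.val_one]
    rcases sq_eq_one_iff.mp h1 with h1 | h1
    · exact absurd (commutatorElement_eq_one_iff_mul_comm.mp (congrArg Subtype.val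
        (hι ((Units.ext h1 : ι z = 1).trans (map_one ι).symm)) : ⁅a, b⁆ = 1)) h
    · exact h1
  have hm1 : (-1 : K) ≠ 1 := by
    rcases hsign p2 hp2 p1 hp1 with h | ⟨hz, hz1⟩
    · exact absurd h hne
    · intro h
      exact hne (commutatorElement_eq_one_iff_mul_comm.mp (congrArg Subtype.val
        (hι ((Units.ext (hz1.trans h) : ι ⟨_, hz⟩ = 1).trans (map_one ι).symm)) : ⁅p2, p1⁆ = 1))
  have hprim2 : IsPrimitiveRoot (-1 : K) 2 :=
    IsPrimitiveRoot.mk_of_lt _ (by norm_num) (by norm_num) fun l hl hl2 => by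
      rw [show l = 1 by omega, pow_one]; exact hm1
  -- commuting elements
  have hcomm2 : ∀ a ∈ Y, ∀ b ∈ Y, a ∉ A → b ∉ A → a * b = b * a → a * b ∈ A := by
    intro a ha b hb haA hbA hab
    by_contra habA
    have hab2 : (a * b) ^ 2 = a ^ 2 * b ^ 2 := Commute.mul_pow hab 2
    obtain ⟨i, d, hd⟩ := exists_pow_mul_eq_pow Nat.prime_two
      (hnonpow 2 _ two_pos hprim2 a ha haA (hsq a ha)) (χu ⟨b ^ 2, hsq b hb⟩)
    rcases Nat.even_or_odd' i with ⟨t, rfl | rfl⟩
    · refine hnonpow 2 _ two_pos hprim2 b hb hbA (hsq b hb) (d * (χu ⟨a ^ 2, hsq a ha⟩ ^ t)⁻¹) ?_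
      rw [mul_pow, ← hd, inv_pow, ← pow_mul, mul_comm t 2]
      exact (mul_inv_cancel_comm _ _).symm
    · refine hnonpow 2 _ two_pos hprim2 (a * b) (Y.mul_mem ha hb) habA (hsq _ (Y.mul_mem ha hb))
        (d * (χu ⟨a ^ 2, hsq a ha⟩ ^ t)⁻¹) ?_
      rw [mul_pow, ← hd, inv_pow, ← pow_mul, mul_comm t 2]
      have e : χu ⟨(a * b) ^ 2, hsq _ (Y.mul_mem ha hb)⟩ = χu ⟨a ^ 2, hsq a ha⟩ * χu ⟨b ^ 2, hsq b hb⟩ := by
        apply Units.ext
        show χ _ = χ _ * χ _
        rw [← hχmul]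
        exact congrArg χ (Subtype.ext hab2)
      rw [e, pow_succ (χu ⟨a ^ 2, hsq a ha⟩) (2 * t)]
      apply eq_mul_inv_of_mul_eq
      ac_rfl
  have hgen : ∀ y ∈ Y, y ∈ A ⊔ Subgroup.closure {p1, p2} := by
    intro y hy
    set G := A ⊔ Subgroup.closure {p1, p2}
    have hp1G : p1 ∈ G := Subgroup.mem_sup_right (Subgroup.subset_closure (Set.mem_insert _ _))
    have hp2G : p2 ∈ G :=
      Subgroup.mem_sup_right (Subgroup.subset_closure (Set.mem_insert_of_mem _ rfl))
    have hflip : ∀ a ∈ Y, ∀ p ∈ Y, ∀ q ∈ Y, a * p ≠ p * a → q * p ≠ p * q →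
        (a * q) * p = p * (a * q) := by
      intro a ha p hp q hq h1 h2
      obtain h | ⟨hz, hza⟩ := hsign a ha p hp
      · exact absurd h h1
      obtain h | ⟨hz', hzq⟩ := hsign q hq p hp
      · exact absurd h h2
      have e : ⁅a, p⁆ * ⁅q, p⁆ = 1 := by
        refine congrArg Subtype.val (hι ?_ : (⟨_, hz⟩ * ⟨_, hz'⟩ : U) = 1)
        rw [map_mul, map_one]
        apply Units.ext
        rw [Units.val_mul, hza, hzq, Units.val_one, neg_mul_neg, one_mul]
      rw [← commutatorElement_eq_one_iff_mul_comm]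
      have e2 : ⁅a * q, p⁆ = (a * ⁅q, p⁆ * a⁻¹) * ⁅a, p⁆ := by
        simp only [commutatorElement_def]; group
      rw [e2, ← hcenU _ hz' a (hYN ha), mul_inv_cancel_right, hcenU _ hz' _ (hN.le hz), e]
    have key : ∀ a ∈ Y, a * p1 = p1 * a → a * p2 = p2 * a → a ∈ A := by
      intro a ha h1 h2
      by_contra haA
      have h := hcomm2 a ha p1 hp1 haA hp1A h1
      have h3 := hcentral _ h p2 hp2
      refine hne (mul_left_cancel (a := a) ?_).symm
      rw [← mul_assoc, h3, ← mul_assoc, ← h2, mul_assoc]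
    have step1 : ∀ a ∈ Y, a * p1 = p1 * a → a ∈ G := by
      intro a ha h1
      by_cases h2 : a * p2 = p2 * a
      · exact Subgroup.mem_sup_left (key a ha h1 h2)
      have h3 := key (a * p1) (Y.mul_mem ha hp1) (by rw [← mul_assoc, h1])
        (hflip a ha p2 hp2 p1 hp1 h2 (Ne.symm hne))
      simpa using G.mul_mem (Subgroup.mem_sup_left h3 : a * p1 ∈ G) (G.inv_mem hp1G)
    by_cases h1 : y * p1 = p1 * y
    · exact step1 y hy h1
    have h3 := step1 (y * p2) (Y.mul_mem hy hp2) (hflip y hy p1 hp1 p2 hp2 h1 hne)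
    simpa using G.mul_mem h3 (G.inv_mem hp2G)
  -- the conic
  set c1 : K := χ ⟨p1 ^ 2, hsq p1 hp1⟩
  set c2 : K := χ ⟨p2 ^ 2, hsq p2 hp2⟩
  have hK2 : ringChar K ≠ 2 := fun h => hm1 (by
    haveI := ringChar.of_eq h
    exact CharTwo.neg_eq 1)
  obtain ⟨α, β, hαβ⟩ : ∃ α β : K, c1 * α ^ 2 + c2 * β ^ 2 = 1 := by
    letI : Fintype K := Fintype.ofFinite K
    obtain ⟨α, β, h⟩ := FiniteField.exists_root_sum_quadratic
      (f := Polynomial.C c1 * X ^ 2) (g := Polynomial.C c2 * X ^ 2 - 1)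
      (Polynomial.degree_C_mul_X_pow 2 (hχne _)) (by
        rw [← Polynomial.C_1, Polynomial.degree_sub_C (by
          rw [Polynomial.degree_C_mul_X_pow 2 (hχne _)]; norm_num),
          Polynomial.degree_C_mul_X_pow 2 (hχne _)]; rfl)
      (FiniteField.odd_card_of_char_ne_two hK2)
    refine ⟨α, β, ?_⟩
    simp at h
    linear_combination h
  have hβ : β ≠ 0 := by
    intro h
    rw [h] at hαβ
    have hα0 : α ≠ 0 := fun h' => by rw [h'] at hαβ; simp at hαβ
    refine hnonpow 2 _ two_pos hprim2 p1 hp1 hp1A (hsq p1 hp1) (Units.mk0 α hα0)⁻¹ ?_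
    rw [inv_pow]
    apply eq_inv_of_mul_eq_one_left
    apply Units.ext
    show c1 * α ^ 2 = 1
    linear_combination hαβ
  have hanti : ∀ x : V, p2 • p1 • x = (-1 : K) • p1 • p2 • x := by
    intro x
    obtain h | ⟨hz, hz1⟩ := hsign p2 hp2 p1 hp1
    · exact absurd h hne
    rw [← hz1, ← hιv ⟨_, hz⟩, ← mul_smul, ← mul_smul, ← mul_smul]
    congr 1
    show p2 * p1 = ⁅p2, p1⁆ * p1 * p2
    simp only [commutatorElement_def]; group
  let T : V → V := fun x => α • p1 • x + β • p2 • x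
  have hTT : T (T v) = v := by
    have e1 : p1 • p1 • v = c1 • v := by rw [← mul_smul, ← pow_two]; exact hχ ⟨p1 ^ 2, hsq p1 hp1⟩
    have e2 : p2 • p2 • v = c2 • v := by rw [← mul_smul, ← pow_two]; exact hχ ⟨p2 ^ 2, hsq p2 hp2⟩
    simp only [T, smul_add, hlN p1 (hYN hp1), hlN p2 (hYN hp2), e1, e2, hanti]
    have : (1 : K) • v = (c1 * α ^ 2 + c2 * β ^ 2) • v := by rw [hαβ]
    rw [one_smul] at this
    generalize p1 • p2 • v = q
    conv_rhs => rw [this]
    module
  obtain ⟨w, hwE, hw0, ε, hw⟩ : ∃ w ∈ E, w ≠ 0 ∧ ∃ ε : K, T w = ε • w := by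
    have hTadd : T (v + T v) = (1 : K) • (v + T v) := by
      rw [one_smul]
      have hadd : ∀ a b, T (a + b) = T a + T b := fun a b => by
        simp only [T, smul_add]
        abel
      rw [hadd, hTT, add_comm]
    by_cases h : v + T v = 0
    · refine ⟨v, hvE, hv, -1, ?_⟩
      rw [neg_one_smul]
      exact eq_neg_of_add_eq_zero_right h
    · exact ⟨_, E.add_mem hvE (E.add_mem (E.smul_mem α (hEinv p1 hp1 v hvE))
        (E.smul_mem β (hEinv p2 hp2 v hvE))), h, 1, hTadd⟩
  have hline := hlineE w hwE hw0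
  refine ⟨w, hw0, habel w hw0, p1, hYN hp1, fun a ha => hcentral a (hline ▸ ha) p1 hp1,
    fun y hy hya => ?_⟩
  rw [hline] at hya
  set L := Submodule.span K ({w, p1 • w} : Set V)
  have hwL : w ∈ L := Submodule.subset_span (Set.mem_insert _ _)
  have hp1w : p1 • w ∈ L := Submodule.subset_span (Set.mem_insert_of_mem _ rfl)
  have hp2w : p2 • w ∈ L := by
    have e : p2 • w = β⁻¹ • (ε • w - α • p1 • w) := by
      rw [← hw, show T w - α • p1 • w = β • p2 • w from add_sub_cancel_left _ _, inv_smul_smul₀ hβ]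
    rw [e]
    exact L.smul_mem _ (L.sub_mem (L.smul_mem _ hwL) (L.smul_mem _ hp1w))
  -- the elements leaving the plane invariant
  have hgens : ∀ s, (s ∈ N ∧ s • w ∈ L ∧ s • p1 • w ∈ L) → ∀ x ∈ L, s • x ∈ L := by
    intro s hs x hx
    induction hx using Submodule.span_induction with
    | mem x hx =>
      rcases hx with rfl | rfl
      · exact hs.2.1
      · exact hs.2.2
    | zero => rw [smul_zero]; exact L.zero_mem
    | add a b _ _ ha hb => rw [smul_add]; exact L.add_mem ha hb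
    | smul k a _ ha => rw [hlN s hs.1]; exact L.smul_mem k ha
  let P : Submonoid H :=
    { carrier := {s | ∀ x ∈ L, s • x ∈ L}
      one_mem' := fun x hx => by rwa [one_smul]
      mul_mem' := fun {a b} ha hb x hx => by rw [mul_smul]; exact ha _ (hb x hx) }
  have hpow_w : ∀ a ∈ A, a • w ∈ L := fun a ha => by
    rw [hwE ⟨a, ha⟩]; exact L.smul_mem _ hwL
  have hA_P : (A : Set H) ⊆ P := fun a ha => hgens a ⟨hAN ha, hpow_w a ha, by
    rw [← mul_smul, hcentral a ha p1 hp1, mul_smul, hwE ⟨a, ha⟩, hlN p1 (hYN hp1)]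
    exact L.smul_mem _ hp1w⟩
  have hp1P : p1 ∈ P := hgens p1 ⟨hYN hp1, hp1w, by
    rw [← mul_smul, ← pow_two]; exact hpow_w _ (hsq p1 hp1)⟩
  have hp2P : p2 ∈ P := hgens p2 ⟨hYN hp2, hp2w, by
    rw [hanti, show p2 • w = β⁻¹ • (ε • w - α • p1 • w) by
      rw [← hw, show T w - α • p1 • w = β • p2 • w from add_sub_cancel_left _ _, inv_smul_smul₀ hβ]]
    rw [hlN p1 (hYN hp1), smul_sub, hlN p1 (hYN hp1), hlN p1 (hYN hp1), ← mul_smul p1, ← pow_two]
    exact L.smul_mem _ (L.smul_mem _ (L.sub_mem (L.smul_mem _ hp1w)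
      (L.smul_mem _ (hpow_w _ (hsq p1 hp1)))))⟩
  have hyP : y ∈ Submonoid.closure ((A : Set H) ∪ {p1, p2}) := by
    have h := hgen y ((hYmem y).mpr ⟨hy, hya⟩)
    rw [← Subgroup.closure_eq A, ← Subgroup.closure_union] at h
    rw [← Subgroup.mem_toSubmonoid,
      Subgroup.closure_toSubmonoid_of_finite] at h
    exact h
  exact (Submonoid.closure_le.mpr (Set.union_subset hA_P
    (Set.insert_subset hp1P (Set.singleton_subset_iff.mpr hp2P))) hyP) w hwL

end

end Cfsg.Agent.BC85.BaseThree
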