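import Mathlib

/-!
# A rigid pair of small subsets of a finite abelian group
-/

set_option autoImplicit false

namespace Cfsg.Agent.BC85.BaseThree

variable {k : ℕ} {m : Fin k → ℕ}

/-- The generators. -/
def gen (m : Fin k → ℕ) (a : Fin k) : ∀ i, ZMod (m i) := Pi.single a 1

/-- Generators, and sums of neighbours if there are at least three generators. -/
def SetW (m : Fin k → ℕ) : Set (∀ i, ZMod (m i)) :=
  {x | (∃ a, x = gen m a) ∨ (3 ≤ k ∧ ∃ a b : Fin k, (b : ℕ) = a + 1 ∧ x = gen m a + gen m b)}

/-- The first generator and the other sums of two generators. -/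
def SetZ (m : Fin k → ℕ) : Set (∀ i, ZMod (m i)) :=
  {x | (∃ a : Fin k, (a : ℕ) = 0 ∧ x = gen m a) ∨
    ∃ a b : Fin k, a ≤ b ∧ x = gen m a + gen m b ∧ x ≠ 0 ∧ x ∉ SetW m}

theorem gen_mem_W (a : Fin k) : gen m a ∈ SetW m := Or.inl ⟨a, rfl⟩

theorem cover {a b : Fin k} (hab : a ≤ b) :
    gen m a + gen m b = 0 ∨ gen m a + gen m b ∈ SetW m ∨ gen m a + gen m b ∈ SetZ m := by
  by_cases h0 : gen m a + gen m b = 0
  · exact Or.inl h0
  by_cases hW : gen m a + gen m b ∈ SetW m
  · exact Or.inr (Or.inl hW)
  exact Or.inr (Or.inr (Or.inr ⟨a, b, hab, rfl, h0, hW⟩))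

theorem gen_self (a : Fin k) : gen m a a = 1 := Pi.single_eq_same _ _

theorem gen_ne {a i : Fin k} (h : i ≠ a) : gen m a i = 0 := Pi.single_eq_of_ne h _

theorem inter {x : ∀ i, ZMod (m i)} (hW : x ∈ SetW m) (hZ : x ∈ SetZ m) :
    ∃ a : Fin k, (a : ℕ) = 0 ∧ x = gen m a := by
  rcases hZ with h | ⟨a, b, -, -, -, h⟩
  · exact h
  · exact absurd hW h

theorem W_supp {x : ∀ i, ZMod (m i)} (hx : x ∈ SetW m) {i j : Fin k} (hij : i < j) (hi : x i ≠ 0)
    (hj : x j ≠ 0) : (j : ℕ) = i + 1 ∧ x i = 1 ∧ x j = 1 := by
  rcases hx with ⟨a, rfl⟩ | ⟨-, a, b, hb, rfl⟩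
  · have h1 : i = a := by by_contra h; exact hi (gen_ne h)
    have h2 : j = a := by by_contra h; exact hj (gen_ne h)
    exact absurd (h1.trans h2.symm) hij.ne
  · have mem : ∀ l, (gen m a + gen m b) l ≠ 0 → l = a ∨ l = b := by
      intro l hl
      by_contra h
      push Not at h
      exact hl (by rw [Pi.add_apply, gen_ne h.1, gen_ne h.2, add_zero])
    have hne : a ≠ b := fun h => by rw [h] at hb; omega
    rcases mem i hi with rfl | rfl <;> rcases mem j hj with rfl | rfl
    · exact absurd hij (lt_irrefl _)
    · exact ⟨hb, by rw [Pi.add_apply, gen_self, gen_ne hne, add_zero],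
        by rw [Pi.add_apply, gen_self, gen_ne hne.symm, zero_add]⟩
    · have := Fin.lt_def.mp hij; omega
    · exact absurd hij (lt_irrefl _)

theorem Z_supp {x : ∀ i, ZMod (m i)} (hx : x ∈ SetZ m) {i j l : Fin k} (hij : i < j) (hjl : j < l)
    (hi : x i ≠ 0) (hj : x j ≠ 0) (hl : x l ≠ 0) : False := by
  obtain ⟨a, b, mem⟩ : ∃ a b : Fin k, ∀ t, x t ≠ 0 → t = a ∨ t = b := by
    rcases hx with ⟨a, -, rfl⟩ | ⟨a, b, -, rfl, -, -⟩
    · exact ⟨a, a, fun t ht => Or.inl (by by_contra h; exact ht (gen_ne h))⟩
    · refine ⟨a, b, fun t ht => ?_⟩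
      by_contra h
      push Not at h
      exact ht (by rw [Pi.add_apply, gen_ne h.1, gen_ne h.2, add_zero])
  rcases mem i hi with rfl | rfl <;> rcases mem j hj with rfl | rfl <;>
    rcases mem l hl with rfl | rfl <;> simp_all [lt_irrefl, lt_asymm]

/-- An additive injection preserving both sets is the identity. -/
theorem rigid (hm : ∀ i, 2 ≤ m i) (T : (∀ i, ZMod (m i)) →+ (∀ i, ZMod (m i)))
    (hT : Function.Injective T) (hW : ∀ x ∈ SetW m, T x ∈ SetW m)
    (hZ : ∀ x ∈ SetZ m, T x ∈ SetZ m) (x : ∀ i, ZMod (m i)) : T x = x := by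
  haveI : ∀ i, Fact (1 < m i) := fun i => ⟨hm i⟩
  haveI : ∀ i, NeZero (m i) := fun i => ⟨by have := hm i; omega⟩
  have one_ne : ∀ i : Fin k, (1 : ZMod (m i)) ≠ 0 := fun i => one_ne_zero
  have single_ne : ∀ a, gen m a a ≠ 0 := fun a => by rw [gen_self]; exact one_ne a
  have pair_val : ∀ {a b : Fin k}, a ≠ b →
      (gen m a + gen m b) a = 1 ∧ (gen m a + gen m b) b = 1 := fun {a b} h => by
    constructor
    · rw [Pi.add_apply, gen_self, gen_ne h, add_zero]
    · rw [Pi.add_apply, gen_self, gen_ne h.symm, zero_add]
  have gen_inj : ∀ {a b : Fin k}, gen m a = gen m b → a = b := fun {a b} h => by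
    by_contra hne
    exact single_ne a (by rw [h, gen_ne hne])
  have key : ∀ (n : ℕ) (hn : n < k), T (gen m ⟨n, hn⟩) = gen m ⟨n, hn⟩ := by
    intro n
    induction n using Nat.strong_induction_on with
    | _ n ih =>
      intro hn
      rcases n with _ | i
      · obtain ⟨a, ha, he⟩ := inter (hW _ (gen_mem_W _)) (hZ _ (Or.inl ⟨⟨0, hn⟩, rfl, rfl⟩))
        rw [he, show a = ⟨0, hn⟩ from Fin.ext ha]
      have hi : i < k := by omega
      have ihi := ih i (by omega) hi
      set I : Fin k := ⟨i, hi⟩ with hI
      set J : Fin k := ⟨i + 1, hn⟩ with hJ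
      have hIJ : I ≠ J := fun h => by simp [hI, hJ] at h
      have inj_low : ∀ (l : Fin k), (l : ℕ) ≤ i → T (gen m J) ≠ gen m l := fun l hl h => by
        have h2 := congrArg Fin.val (gen_inj (hT (h.trans (ih l (by omega) l.2).symm)))
        simp only [hJ] at h2
        omega
      by_cases hk3 : 3 ≤ k
      swap
      · rcases hW _ (gen_mem_W J) with ⟨l, hl⟩ | ⟨h3, -⟩
        · rw [hl]
          congr 1
          refine Fin.ext ?_
          have h1 : ¬ (l : ℕ) ≤ i := fun h => inj_low l h hl
          have := l.2
          simp only [hJ]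
          omega
        · exact absurd h3 hk3
      have hedge : gen m I + T (gen m J) ∈ SetW m := by
        have := hW _ (Or.inr ⟨hk3, I, J, rfl, rfl⟩ : gen m I + gen m J ∈ SetW m)
        rwa [map_add, ihi] at this
      rcases hW _ (gen_mem_W J) with ⟨l, hl⟩ | ⟨-, a, b, hb, hl⟩
      · have hlt : I < l := by
          by_contra h
          exact inj_low l (not_lt.mp h) hl
        rw [hl] at hedge ⊢
        obtain ⟨h1, h2⟩ := pair_val hlt.ne
        have := (W_supp hedge hlt (by rw [h1]; exact one_ne I) (by rw [h2]; exact one_ne l)).1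
        rw [show l = J from Fin.ext (by simpa [hI, hJ] using this)]
      -- the image is a sum of neighbours
      exfalso
      rw [hl] at hedge
      have hab : a < b := Fin.lt_def.mpr (by omega)
      obtain ⟨va, vb⟩ := pair_val hab.ne
      have vI : ∀ t : Fin k, t ≠ I → (gen m I + (gen m a + gen m b)) t = (gen m a + gen m b) t :=
        fun t ht => by rw [Pi.add_apply, gen_ne ht, zero_add]
      by_cases hIa : I = a
      · subst hIa
        rcases Nat.eq_zero_or_pos i with hi0 | hipos
        · -- the first step
          subst hi0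
          have hbJ : b = J := Fin.ext (by simpa [hI, hJ] using hb)
          subst hbJ
          let L : Fin k := ⟨2, hk3⟩
          have hJL : J < L := Fin.lt_def.mpr (by simp [hJ, L])
          have hIL : I < L := Fin.lt_def.mpr (by simp [hI, L])
          have h20 : (gen m I + (gen m I + gen m J)) I = 0 := by
            by_contra h
            have hJ' : (gen m I + (gen m I + gen m J)) J = 1 := by rw [vI J hIJ.symm, vb]
            have h1 := (W_supp hedge hab h (by rw [hJ']; exact one_ne J)).2.1
            rw [Pi.add_apply, va, gen_self] at h1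
            exact one_ne I (by simpa using h1)
          have hTIJ : T (gen m I + gen m J) = gen m J := by
            rw [map_add, ihi, hl]
            funext t
            by_cases ht : t = I
            · subst ht; rw [h20, gen_ne hIJ]
            · rw [vI t ht, Pi.add_apply, gen_ne ht, zero_add]
          have hnext : T (gen m J + gen m L) ∈ SetW m :=
            hW _ (Or.inr ⟨hk3, J, L, by simp [hJ, L], rfl⟩)
          rw [map_add, hl] at hnext
          rcases hW _ (gen_mem_W L) with ⟨c, hc⟩ | ⟨-, c, d, hd, hc⟩
          · have hcI : c ≠ I := fun h => hIL.ne' (gen_inj (hT (hc.trans (h ▸ ihi.symm))))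
            by_cases hcJ : c = J
            · subst hcJ
              have h1 := congrFun (hT (hc.trans hTIJ.symm)) L
              rw [gen_self, Pi.add_apply, gen_ne hIL.ne', gen_ne hJL.ne', add_zero] at h1
              exact one_ne L h1
            have hIc : I < c := lt_of_le_of_ne (Fin.le_def.mpr (Nat.zero_le _)) (Ne.symm hcI)
            rw [hc] at hnext
            have h1 : (gen m I + gen m J + gen m c) I = 1 := by
              rw [Pi.add_apply, va, gen_ne hIc.ne, add_zero]
            have h2 : (gen m I + gen m J + gen m c) c = 1 := by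
              rw [Pi.add_apply, gen_self, Pi.add_apply, gen_ne hcI, gen_ne hcJ, zero_add, zero_add]
            have := (W_supp hnext hIc (by rw [h1]; exact one_ne I) (by rw [h2]; exact one_ne c)).1
            exact hcJ (Fin.ext (by simpa [hI, hJ] using this))
          · rw [hc] at hnext
            by_cases hcI : c = I
            · subst hcI
              rw [show d = J from Fin.ext (by simpa [hI, hJ] using hd), ← hl] at hc
              exact hJL.ne' (gen_inj (hT hc))
            have hIc : I < c := lt_of_le_of_ne (Fin.le_def.mpr (Nat.zero_le _)) (Ne.symm hcI)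
            have hcpos : 0 < (c : ℕ) := by have := Fin.lt_def.mp hIc; simpa [hI] using this
            have hId : I < d := Fin.lt_def.mpr (by simp [hI]; omega)
            have hdJ : d ≠ J := fun h => by simp [h, hJ] at hd; omega
            have hdc : d ≠ c := fun h => by rw [h] at hd; omega
            have h1 : (gen m I + gen m J + (gen m c + gen m d)) I = 1 := by
              rw [Pi.add_apply, va, Pi.add_apply, gen_ne hIc.ne, gen_ne hId.ne, add_zero, add_zero]
            have h2 : (gen m I + gen m J + (gen m c + gen m d)) d = 1 := by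
              rw [Pi.add_apply, Pi.add_apply, Pi.add_apply, gen_self, gen_ne hId.ne', gen_ne hdJ,
                gen_ne hdc, zero_add, zero_add, zero_add]
            have := (W_supp hnext hId (by rw [h1]; exact one_ne I) (by rw [h2]; exact one_ne d)).1
            exact hdJ (Fin.ext (by simpa [hI, hJ] using this))
        · -- a sum with the first generator has too large a support
          let O : Fin k := ⟨0, by omega⟩
          have hOI : O < I := Fin.lt_def.mpr hipos
          have hOJ : O ≠ J := fun h => by simp [O, hJ] at h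
          obtain ⟨w1, w2⟩ := pair_val hOJ
          have hmemZ : gen m O + gen m J ∈ SetZ m := by
            refine Or.inr ⟨O, J, Fin.le_def.mpr (Nat.zero_le _), rfl, ?_, ?_⟩
            · intro h
              exact one_ne O (w1.symm.trans (congrFun h O))
            · intro h
              have := (W_supp h (lt_of_le_of_ne (Fin.le_def.mpr (Nat.zero_le _)) hOJ)
                (by rw [w1]; exact one_ne O) (by rw [w2]; exact one_ne J)).1
              simp [O, hJ] at this
              omega
          have h1 := hZ _ hmemZ
          rw [map_add, ih 0 (by omega) (by omega), hl] at h1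
          have hOb : O ≠ b := (hOI.trans hab).ne
          refine Z_supp h1 hOI hab ?_ ?_ ?_
          · rw [Pi.add_apply, gen_self, Pi.add_apply, gen_ne hOI.ne, gen_ne hOb, add_zero, add_zero]
            exact one_ne O
          · rw [Pi.add_apply, va, gen_ne hOI.ne', zero_add]
            exact one_ne I
          · rw [Pi.add_apply, vb, gen_ne hOb.symm, zero_add]
            exact one_ne b
      by_cases hIb : I = b
      · subst hIb
        have ha : (a : ℕ) ≤ i := by simp [hI] at hb; omega
        have h1 : T (gen m a + gen m I) = gen m a + gen m I := by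
          rw [map_add, ihi, ih a (by simp [hI] at hb; omega) a.2]
        have h2 := congrFun (hT (hl.trans h1.symm)) J
        rw [gen_self, Pi.add_apply, gen_ne hIJ.symm,
          gen_ne (fun h => by rw [← h] at ha; simp [hJ] at ha), add_zero] at h2
        exact one_ne J h2
      have hI1 : (gen m I + (gen m a + gen m b)) I ≠ 0 := by
        rw [Pi.add_apply, gen_self, Pi.add_apply, gen_ne hIa, gen_ne hIb, add_zero, add_zero]
        exact one_ne I
      rcases lt_or_gt_of_ne hIa with h | h
      · have := (W_supp hedge (h.trans hab) hI1 (by rw [vI b (Ne.symm hIb), vb]; exact one_ne b)).1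
        have := Fin.lt_def.mp h
        simp [hI] at *
        omega
      · have := (W_supp hedge h (by rw [vI a (Ne.symm hIa), va]; exact one_ne a) hI1).1
        exact hIb (Fin.ext (by omega))
  have hv : x = ∑ i, (x i).val • gen m i := by
    funext j
    rw [Finset.sum_apply, Finset.sum_eq_single j]
    · simp [Pi.smul_apply, gen_self, nsmul_eq_mul]
    · intro l _ hl
      simp [Pi.smul_apply, gen_ne hl.symm]
    · simp
  rw [hv, map_sum]
  exact Finset.sum_congr rfl fun i _ => by rw [map_nsmul, key i i.2]

end Cfsg.Agent.BC85.BaseThree
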