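import Mathlib
import Cfsg.Agent.BC85.BaseThree.Basic
import Cfsg.Agent.BC85.BaseThree.Frame
import Cfsg.Agent.BC85.BaseThree.Rigid

/-!
# Regular triples from a monomial frame
-/

set_option autoImplicit false

namespace Cfsg.Agent.BC85.BaseThree

open scoped commutatorElement
open BaseTwo

variable {H V K : Type} [Group H] [Finite H] [AddCommGroup V] [Finite V] [DistribMulAction H V]
  [FaithfulSMul H V] [Field K] [Finite K] [Module K V]

/-- The case of a symplectic section. -/
theorem reg3_sec (U : Subgroup H) [U.Normal] (ι : U →* Kˣ) (hι : Function.Injective ι)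
    (hιv : ∀ (u : U) (v : V), (u : H) • v = (ι u : K) • v)
    (hlin : ∀ g ∈ Subgroup.centralizer (U : Set H), ∀ (k : K) (v : V), g • k • v = k • g • v)
    (hsemi : ∀ (h : H) (k : K), ∃ k' : K, ∀ x : V, h • k • x = k' • h • x)
    (θ : K) (hθ : ∀ (h : H) (v : V), v ≠ 0 → h • v = v → h • θ • v = θ • v →
      h ∈ Subgroup.centralizer (U : Set H))
    (N : Subgroup H) (hN : IsSec U N) (hV : ∃ v : V, v ≠ 0) :
    ∃ t : Fin 3 → V, Reg3 H V t := by
  classical
  have hlN : ∀ n ∈ N, ∀ (k : K) (x : V), n • k • x = k • n • x := fun n hn => hlin n (hN.cen hn)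
  obtain ⟨v, hv, habel, p, hp, hpA, hspan⟩ := exists_frame U ι hι hιv N hN hlN hV
  set A := line N hlN v with hA
  have hAN : A ≤ N := fun a ha => ha.1
  have hUA : U ≤ A := fun u hu => ⟨hN.le hu, _, hιv ⟨u, hu⟩ v⟩
  have hcenU : ∀ u ∈ U, ∀ y ∈ N, u * y = y * u := fun u hu y hy =>
    Subgroup.mem_centralizer_iff.mp (hN.cen hy) u hu
  let Y : Subgroup H := Subgroup.centralizer (A : Set H) ⊓ N
  have hYmem : ∀ y, y ∈ Y ↔ y ∈ N ∧ ∀ a ∈ A, a * y = y * a := fun y =>
    ⟨fun h => ⟨h.2, Subgroup.mem_centralizer_iff.mp h.1⟩,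
      fun h => ⟨Subgroup.mem_centralizer_iff.mpr h.2, h.1⟩⟩
  have hAY : A ≤ Y := fun a ha => (hYmem a).mpr ⟨hAN ha, fun b hb => habel b hb a ha⟩
  have hYN : Y ≤ N := inf_le_right
  have hUY : U ≤ Y := hUA.trans hAY
  have hpY : p ∈ Y := (hYmem p).mpr ⟨hp, hpA⟩
  -- the quotient of the section
  let Y' : Subgroup N := Y.subgroupOf N
  haveI hY'n : Y'.Normal := by
    refine ⟨fun x hx y => ?_⟩
    rw [Subgroup.mem_subgroupOf] at hx ⊢
    have h2 : (y : H) * x * (y : H)⁻¹ = ⁅(y : H), (x : H)⁆ * x := by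
      simp only [commutatorElement_def]; group
    show (y : H) * x * (y : H)⁻¹ ∈ Y
    rw [h2]
    exact Y.mul_mem (hUY (hN.comm y y.2 x x.2)) hx
  letI : CommGroup (N ⧸ Y') :=
    { (inferInstance : Group (N ⧸ Y')) with
      mul_comm := fun a b => by
        obtain ⟨x, rfl⟩ := QuotientGroup.mk'_surjective Y' a
        obtain ⟨y, rfl⟩ := QuotientGroup.mk'_surjective Y' b
        rw [← commutatorElement_eq_one_iff_mul_comm, ← map_commutatorElement]
        exact (QuotientGroup.eq_one_iff _).mpr (hUY (hN.comm x x.2 y y.2)) }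
  haveI : Finite (Additive (N ⧸ Y')) := inferInstanceAs (Finite (N ⧸ Y'))
  obtain ⟨I, _, ns, hns, ⟨e0⟩⟩ := AddCommGroup.equiv_directSum_zmod_of_finite' (Additive (N ⧸ Y'))
  let eI := Fintype.equivFin I
  set k := Fintype.card I with hk
  set m : Fin k → ℕ := fun i => ns (eI.symm i) with hm
  let e1 : (∀ i : I, ZMod (ns i)) ≃+ ∀ j : Fin k, ZMod (m j) :=
    { Equiv.piCongrLeft' (fun i : I => ZMod (ns i)) eI with map_add' := fun _ _ => rfl }
  let eJ : Additive (N ⧸ Y') ≃+ ∀ j : Fin k, ZMod (m j) :=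
    (e0.trans (DirectSum.addEquivProd fun i => ZMod (ns i))).trans e1
  have hm2 : ∀ j, 2 ≤ m j := fun j => hns _
  haveI : ∀ j, NeZero (m j) := fun j => ⟨by have := hm2 j; omega⟩
  haveI : ∀ j, Fact (1 < m j) := fun j => ⟨hm2 j⟩
  let f : N → (∀ j : Fin k, ZMod (m j)) := fun n => eJ (Additive.ofMul (QuotientGroup.mk' Y' n))
  have hfmul : ∀ a b, f (a * b) = f a + f b := fun a b => by
    show eJ (Additive.ofMul (QuotientGroup.mk' Y' (a * b))) = _
    rw [map_mul, ofMul_mul, map_add]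
  have hfeq : ∀ a b : N, f a = f b ↔ (a : H)⁻¹ * b ∈ Y := fun a b => by
    show eJ _ = eJ _ ↔ _
    rw [eJ.injective.eq_iff, Additive.ofMul.injective.eq_iff, QuotientGroup.mk'_apply,
      QuotientGroup.mk'_apply, QuotientGroup.eq, Subgroup.mem_subgroupOf]
    rfl
  have hf1 : f 1 = 0 := by
    show eJ _ = 0
    rw [map_one, ofMul_one, map_zero]
  have hfY : ∀ a : N, f a = 0 ↔ (a : H) ∈ Y := fun a => by
    rw [← hf1, eq_comm, hfeq, OneMemClass.coe_one, inv_one, one_mul]
  have hfsurj : Function.Surjective f := fun x => by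
    obtain ⟨n, hn⟩ := QuotientGroup.mk'_surjective Y' (Additive.toMul (eJ.symm x))
    exact ⟨n, by show eJ _ = x; rw [hn, ofMul_toMul, AddEquiv.apply_symm_apply]⟩
  choose sec hsec using hfsurj
  -- commutators as characters
  let ψ : N → A → Kˣ := fun n a => ι ⟨⁅(a : H), (n : H)⁆, hN.comm a (hAN a.2) n n.2⟩
  have hψc : ∀ (n : N) (a : A), (ψ n a : Kˣ) = ι ⟨⁅(a : H), (n : H)⁆, hN.comm a (hAN a.2) n n.2⟩ :=
    fun n a => rfl
  have hbr : ∀ (a : H), a ∈ A → ∀ n n' : N, f n = f n' → ⁅a, (n : H)⁆ = ⁅a, (n' : H)⁆ := by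
    intro a ha n n' h
    have hy := (hYmem _).mp ((hfeq n n').mp h)
    set y := (n : H)⁻¹ * n' with hydef
    have e : (n' : H) = n * y := by rw [hydef, mul_inv_cancel_left]
    rw [e]
    simp only [commutatorElement_def, mul_inv_rev]
    calc a * n * a⁻¹ * (n : H)⁻¹ = a * n * (y * a⁻¹ * y⁻¹) * (n : H)⁻¹ := by
          rw [← hy.2 a⁻¹ (A.inv_mem ha), mul_inv_cancel_right]
      _ = _ := by group
  have hψinj : ∀ n n' : N, (∀ a, ψ n a = ψ n' a) → f n = f n' := by
    intro n n' h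
    rw [hfeq, hYmem]
    refine ⟨N.mul_mem (N.inv_mem n.2) n'.2, fun a ha => ?_⟩
    have h1 : ⁅a, (n : H)⁆ = ⁅a, (n' : H)⁆ := congrArg Subtype.val (hι (h ⟨a, ha⟩))
    simp only [commutatorElement_def] at h1
    calc a * ((n : H)⁻¹ * n') = (n : H)⁻¹ * (a * n * a⁻¹ * (n : H)⁻¹)⁻¹ *
          (a * n' * a⁻¹ * (n' : H)⁻¹) * n' * a := by group
      _ = _ := by rw [h1]; group
  have hψmul : ∀ (n : N) (a b : A), ψ n (a * b) = ψ n a * ψ n b := by
    intro n a b
    rw [hψc, hψc, hψc, mul_comm, ← map_mul]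
    congr 1
    apply Subtype.ext
    show ⁅(a : H) * b, (n : H)⁆ = ⁅(b : H), (n : H)⁆ * ⁅(a : H), (n : H)⁆
    have e : ⁅(a : H) * b, (n : H)⁆ = (a : H) * ⁅(b : H), (n : H)⁆ * (a : H)⁻¹ * ⁅(a : H), (n : H)⁆ := by
      simp only [commutatorElement_def]; group
    rw [e, ← hcenU _ (hN.comm b (hAN b.2) n n.2) a (hAN a.2), mul_inv_cancel_right]
  -- the eigenspaces
  have hχex : ∀ a : A, ∃ c : K, (a : H) • v = c • v := fun a => a.2.2
  choose χ hχ using hχex
  have hχuniq : ∀ (a : A) (c : K), (a : H) • v = c • v → c = χ a := by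
    intro a c h
    rw [hχ, ← sub_eq_zero, ← sub_smul, smul_eq_zero] at h
    exact (sub_eq_zero.mp (h.resolve_right hv)).symm
  have hχmul : ∀ a b : A, χ (a * b) = χ a * χ b := fun a b =>
    (hχuniq _ _ (by rw [Subgroup.coe_mul, mul_smul, hχ b, hlN a (hAN a.2), hχ a, smul_smul,
      mul_comm])).symm
  have hχ1 : χ 1 = 1 := (hχuniq 1 1 (by rw [OneMemClass.coe_one, one_smul, one_smul])).symm
  let Eig : (∀ j : Fin k, ZMod (m j)) → Submodule K V := fun x =>
    { carrier := {z | ∀ a : A, (a : H) • z = (χ a * ψ (sec x) a) • z}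
      zero_mem' := fun a => by rw [smul_zero, smul_zero]
      add_mem' := fun {z w} hz hw a => by rw [smul_add, smul_add, hz a, hw a]
      smul_mem' := fun c z hz a => by rw [hlN a (hAN a.2), hz a, smul_comm] }
  have hmemEig : ∀ x (n : N), f n = x → ∀ y ∈ Y, (n : H) • y • v ∈ Eig x := by
    intro x n hn y hy a
    have hb : ⁅(a : H), (n : H)⁆ = ⁅(a : H), (sec x : H)⁆ := hbr a a.2 n _ (hn.trans (hsec x).symm)
    have e : (a : H) * n * y = ⁅(a : H), (n : H)⁆ * n * y * a := by
      have hc := ((hYmem y).mp hy).2 a a.2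
      rw [mul_assoc _ y, ← hc]
      simp only [commutatorElement_def]; group
    rw [← mul_smul, ← mul_smul, e, mul_smul, mul_smul, mul_smul, hχ a, hlN y (hYN hy), hlN n n.2,
      mul_smul]
    have hu := hιv ⟨⁅(a : H), (n : H)⁆, hN.comm a (hAN a.2) n n.2⟩
    rw [show ⁅(a : H), (n : H)⁆ • χ a • (n : H) • y • v = _ from hu _, smul_comm]
    congr 2
    exact congrArg (fun w => ((ι w : Kˣ) : K)) (Subtype.ext hb)
  have hmemEig0 : ∀ x (n : N), f n = x → (n : H) • v ∈ Eig x := fun x n hn => by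
    simpa using hmemEig x n hn 1 Y.one_mem
  have hYEig : ∀ y ∈ Y, y • v ∈ Eig 0 := fun y hy => by
    simpa using hmemEig 0 1 hf1 y hy
  -- independence of the eigenspaces
  have hindep : ∀ z : (∀ j : Fin k, ZMod (m j)) → V, (∀ x, z x ∈ Eig x) → ∑ x, z x = 0 →
      ∀ x, z x = 0 := by
    intro z hz hsum x
    refine (Module.forall_dual_apply_eq_zero_iff K (z x)).mp fun φ => ?_
    let ch : (∀ j : Fin k, ZMod (m j)) → (A →* K) := fun x =>
      { toFun := fun a => χ a * ψ (sec x) a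
        map_one' := by
          have h1 := hψmul (sec x) 1 1
          rw [one_mul, left_eq_mul] at h1
          rw [hχ1, h1, Units.val_one, mul_one]
        map_mul' := fun a b => by rw [hχmul, hψmul, Units.val_mul]; ring }
    have hch : Function.Injective ch := by
      intro x x' h
      rw [← hsec x, ← hsec x']
      refine hψinj _ _ fun a => Units.ext ?_
      have h1 : χ a * ψ (sec x) a = χ a * ψ (sec x') a := DFunLike.congr_fun h a
      refine mul_left_cancel₀ (fun h0 => ?_) h1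
      have := hχ a
      rw [h0, zero_smul, smul_eq_zero_iff_eq] at this
      exact hv this
    have hind : LinearIndependent K fun x => (ch x : A → K) :=
      (linearIndependent_monoidHom A K).comp ch hch
    refine (Fintype.linearIndependent_iff.mp hind) (fun x => φ (z x)) ?_ x
    funext a
    have h5 := congrArg (fun w => φ ((a : H) • w)) hsum
    simp only [Finset.smul_sum, map_sum, smul_zero, map_zero] at h5
    simp only [Finset.sum_apply, Pi.smul_apply, smul_eq_mul, Pi.zero_apply]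
    refine Eq.trans (Finset.sum_congr rfl fun x _ => ?_) h5
    rw [hz x a, map_smul, smul_eq_mul, mul_comm]
    rfl
  -- the triple
  let F : V → Set (∀ j : Fin k, ZMod (m j)) → (∀ j : Fin k, ZMod (m j)) → V := fun u S x =>
    if x = 0 then u else if x ∈ S then (sec x : H) • v else 0
  have hFmem : ∀ u ∈ Eig 0, ∀ S x, F u S x ∈ Eig x := by
    intro u hu S x
    simp only [F]
    split_ifs with h1 h2
    · exact h1.symm ▸ hu
    · exact hmemEig0 x _ (hsec x)
    · exact (Eig x).zero_mem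
  have hθv : θ • v ∈ Eig 0 := (Eig 0).smul_mem θ (by simpa using hYEig 1 Y.one_mem)
  refine ⟨![v, ∑ x, F (θ • v) (SetW m) x, ∑ x, F (p • v) (SetZ m) x], fun g hg => ?_⟩
  have hgv : g • v = v := hg 0
  have hginv : g⁻¹ • v = v := inv_smul_eq_iff.mpr hgv.symm
  -- conjugation
  have hnorm : ∀ h : H, h • v = v → ∀ a ∈ A, h * a * h⁻¹ ∈ A := by
    rintro h hh a ⟨ha, c, hc⟩
    obtain ⟨c', hc'⟩ := hsemi h c
    refine ⟨hN.normal.conj_mem a ha h, c', ?_⟩
    rw [mul_smul, mul_smul, inv_smul_eq_iff.mpr hh.symm, hc, hc', hh]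
  have hnormY : ∀ h : H, h • v = v → ∀ y ∈ Y, h * y * h⁻¹ ∈ Y := by
    intro h hh y hy
    rw [hYmem] at hy ⊢
    refine ⟨hN.normal.conj_mem y hy.1 h, fun a ha => ?_⟩
    have h1 := hy.2 (h⁻¹ * a * (h⁻¹)⁻¹) (hnorm h⁻¹ (inv_smul_eq_iff.mpr hh.symm) a ha)
    rw [inv_inv] at h1
    calc a * (h * y * h⁻¹) = h * (h⁻¹ * a * h * y) * h⁻¹ := by group
      _ = h * (y * (h⁻¹ * a * h)) * h⁻¹ := by rw [h1]
      _ = _ := by group
  let cj : N → N := fun n => ⟨g * n * g⁻¹, hN.normal.conj_mem n n.2 g⟩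
  have hcjf : ∀ n n' : N, f n = f n' → f (cj n) = f (cj n') := by
    intro n n' h
    rw [hfeq] at h ⊢
    have := hnormY g hgv _ h
    show (g * n * g⁻¹)⁻¹ * (g * n' * g⁻¹) ∈ Y
    convert this using 1
    group
  let T : (∀ j : Fin k, ZMod (m j)) →+ (∀ j : Fin k, ZMod (m j)) :=
    AddMonoidHom.mk' (fun x => f (cj (sec x))) fun x y => by
      rw [← hfmul]
      refine (hcjf (sec (x + y)) (sec x * sec y) (by rw [hsec, hfmul, hsec, hsec])).trans ?_
      congr 1
      apply Subtype.ext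
      show g * ((sec x : H) * sec y) * g⁻¹ = g * sec x * g⁻¹ * (g * sec y * g⁻¹)
      group
  have hT : ∀ n : N, T (f n) = f (cj n) := fun n => hcjf _ _ (hsec _)
  have hTinj : Function.Injective T := by
    rw [injective_iff_map_eq_zero]
    intro x hx
    rw [← hsec x, hT, hfY] at hx
    rw [← hsec x, hfY]
    have := hnormY g⁻¹ hginv _ hx
    convert this using 1
    show (sec x : H) = g⁻¹ * (g * sec x * g⁻¹) * g⁻¹⁻¹
    group
  have hTsurj : Function.Surjective T := Finite.surjective_of_injective hTinj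
  have hgEig : ∀ x z, z ∈ Eig x → g • z ∈ Eig (T x) := by
    intro x z hz a
    set a' : A := ⟨g⁻¹ * a * (g⁻¹)⁻¹, hnorm g⁻¹ hginv a a.2⟩ with ha'
    have ea : (a : H) * g = g * (a' : H) := by
      show (a : H) * g = g * (g⁻¹ * a * (g⁻¹)⁻¹)
      group
    obtain ⟨c', hc'⟩ := hsemi g (χ a')
    have hcc : c' = χ a := by
      refine hχuniq a c' ?_
      calc (a : H) • v = (a : H) • g • v := by rw [hgv]
        _ = g • (a' : H) • v := by rw [← mul_smul, ea, mul_smul]
        _ = c' • v := by rw [hχ, hc', hgv]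
    set u : U := ⟨⁅(a' : H), (sec x : H)⁆, hN.comm a' (hAN a'.2) _ (sec x).2⟩ with hu
    have hu' : (g * (u : H) * g⁻¹) = ⁅(a : H), (cj (sec x) : H)⁆ := by
      show g * ⁅(a' : H), (sec x : H)⁆ * g⁻¹ = _
      show g * ⁅g⁻¹ * (a : H) * (g⁻¹)⁻¹, (sec x : H)⁆ * g⁻¹ = ⁅(a : H), g * (sec x : H) * g⁻¹⁆
      simp only [commutatorElement_def]; group
    rw [← mul_smul, ea, mul_smul, hz a', mul_smul, hc', hcc]
    rw [show (ψ (sec x) a' : K) • z = (u : H) • z from (hιv u z).symm, ← mul_smul g,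
      show g * (u : H) = (g * u * g⁻¹) * g by group, mul_smul, hu']
    rw [mul_smul]
    congr 1
    rw [hιv ⟨⁅(a : H), (cj (sec x) : H)⁆, hN.comm a (hAN a.2) _ (cj (sec x)).2⟩ (g • z)]
    congr 2
    rw [hψc]
    exact congrArg ι (Subtype.ext (hbr a a.2 _ _ ((hT (sec x)).symm.trans
      (by rw [hsec x, hsec]))))
  have hcomp : ∀ (u : V) (S : Set (∀ j : Fin k, ZMod (m j))), u ∈ Eig 0 →
      g • (∑ x, F u S x) = ∑ x, F u S x → ∀ x, g • F u S x = F u S (T x) := by
    intro u S hu hfix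
    let eT : (∀ j : Fin k, ZMod (m j)) ≃ (∀ j : Fin k, ZMod (m j)) :=
      Equiv.ofBijective T ⟨hTinj, hTsurj⟩
    have h0 := hindep (fun x' => g • F u S (eT.symm x') - F u S x') (fun x' => by
      refine (Eig x').sub_mem ?_ (hFmem u hu S x')
      have := hgEig _ _ (hFmem u hu S (eT.symm x'))
      rwa [show T (eT.symm x') = x' from eT.apply_symm_apply x'] at this) (by
      rw [Finset.sum_sub_distrib, sub_eq_zero]
      refine Eq.trans ?_ hfix
      rw [Finset.smul_sum]
      exact Equiv.sum_comp eT.symm (fun x => g • F u S x))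
    intro x
    have := h0 (T x)
    rwa [show eT.symm (T x) = x from eT.symm_apply_apply x, sub_eq_zero] at this
  have h1 := hcomp _ _ hθv (hg 1)
  have h2 := hcomp _ _ (hYEig p hpY) (hg 2)
  have one_ne : ∀ a, gen m a ≠ 0 := fun a h => by
    have := congrFun h a
    rw [gen_self] at this
    exact one_ne_zero this
  have hW0 : (0 : ∀ j : Fin k, ZMod (m j)) ∉ SetW m := by
    rintro (⟨a, ha⟩ | ⟨-, a, b, hb, hab⟩)
    · exact one_ne a ha.symm
    · have hne : a ≠ b := fun h => by rw [h] at hb; omega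
      have := congrFun hab a
      rw [Pi.add_apply, gen_self, gen_ne hne, add_zero] at this
      exact one_ne_zero this.symm
  have hZ0 : (0 : ∀ j : Fin k, ZMod (m j)) ∉ SetZ m := by
    rintro (⟨a, -, ha⟩ | ⟨a, b, -, he, hne, -⟩)
    · exact one_ne a ha.symm
    · exact hne rfl
  have hkeep : ∀ (u : V) (S : Set (∀ j : Fin k, ZMod (m j))), (0 : ∀ j : Fin k, ZMod (m j)) ∉ S →
      (∀ x, g • F u S x = F u S (T x)) → ∀ x ∈ S, T x ∈ S := by
    intro u S h0 hF x hx
    by_contra hTx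
    have hx0 : x ≠ 0 := fun h => h0 (h ▸ hx)
    have hTx0 : T x ≠ 0 := fun h => hx0 (hTinj (h.trans (map_zero T).symm))
    have := hF x
    simp only [F, if_neg hx0, if_pos hx, if_neg hTx0, if_neg hTx, smul_eq_zero_iff_eq] at this
    exact hv this
  have hTid : ∀ x, T x = x :=
    rigid hm2 T hTinj (hkeep _ _ hW0 h1) (hkeep _ _ hZ0 h2)
  have hgθ : g • θ • v = θ • v := by simpa [F] using h1 0
  have hgp : g • p • v = p • v := by simpa [F] using h2 0
  have hgC := hθ g v hv hgv hgθ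
  have hgl := hlin g hgC
  have hgsec : ∀ x, (x ∈ SetW m ∨ x ∈ SetZ m) → g • (sec x : H) • v = (sec x : H) • v := by
    rintro x (hx | hx)
    · have hx0 : x ≠ 0 := fun h => hW0 (h ▸ hx)
      simpa [F, hTid, hx0, hx] using h1 x
    · have hx0 : x ≠ 0 := fun h => hZ0 (h ▸ hx)
      simpa [F, hTid, hx0, hx] using h2 x
  have hgspan : ∀ y ∈ Y, g • y • v = y • v := by
    intro y hy
    have h := hspan y (hYN hy) ((hYmem y).mp hy).2
    generalize y • v = z at h ⊢
    induction h using Submodule.span_induction with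
    | mem x hx =>
      rcases hx with rfl | rfl
      · exact hgv
      · exact hgp
    | zero => rw [smul_zero]
    | add a b _ _ ha hb => rw [smul_add, ha, hb]
    | smul c a _ ha => rw [hgl, ha]
  -- elements of the stabiliser of the vector
  have hfix1 : ∀ a ∈ A, a • v = v → (∀ n ∈ N, a * n = n * a) → a = 1 := by
    intro a ha hav hcomm
    have haU : a ∈ U := hN.centre a (hN.cen (hAN ha)) hcomm
    have h3 : ((ι ⟨a, haU⟩ : K) - 1) • v = 0 := by
      rw [sub_smul, one_smul, ← hιv ⟨a, haU⟩, hav, sub_self]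
    have h4 : ι ⟨a, haU⟩ = 1 := Units.ext (sub_eq_zero.mp ((smul_eq_zero.mp h3).resolve_right hv))
    exact congrArg Subtype.val (hι (h4.trans (map_one ι).symm))
  have hgU : ∀ u ∈ U, g * u * g⁻¹ = u := fun u hu => by
    rw [← Subgroup.mem_centralizer_iff.mp hgC u hu, mul_inv_cancel_right]
  have hgcomm : ∀ n ∈ N, ∀ n' ∈ N, ⁅g * n * g⁻¹, g * n' * g⁻¹⁆ = ⁅n, n'⁆ := fun n hn n' hn' => by
    rw [← hgU _ (hN.comm n hn n' hn')]
    simp only [commutatorElement_def]; group
  have hbilR : ∀ n ∈ N, ∀ b ∈ N, ∀ c ∈ N, ⁅n, b * c⁆ = ⁅n, b⁆ * ⁅n, c⁆ := fun n hn b hb c hc => by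
    have e : ⁅n, b * c⁆ = ⁅n, b⁆ * (b * ⁅n, c⁆ * b⁻¹) := by simp only [commutatorElement_def]; group
    rw [e, ← hcenU _ (hN.comm n hn c hc) b hb, mul_inv_cancel_right]
  have hbilL : ∀ b ∈ N, ∀ c ∈ N, ∀ n ∈ N, ⁅b * c, n⁆ = ⁅b, n⁆ * ⁅c, n⁆ := fun b hb c hc n hn => by
    have e : ⁅b * c, n⁆ = b * ⁅c, n⁆ * b⁻¹ * ⁅b, n⁆ := by simp only [commutatorElement_def]; group
    rw [e, ← hcenU _ (hN.comm c hc n hn) b hb, mul_inv_cancel_right,
      hcenU _ (hN.comm c hc n hn) _ (hN.le (hN.comm b hb n hn))]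
  -- g centralises A
  have hgA : ∀ a ∈ A, g * a = a * g := by
    intro a ha
    have ha1 : g * a * g⁻¹ * a⁻¹ ∈ A := A.mul_mem (hnorm g hgv a ha) (A.inv_mem ha)
    have hav : (g * a * g⁻¹ * a⁻¹) • v = v := by
      have e : g * a * g⁻¹ * a⁻¹ = g * (a * g⁻¹ * a⁻¹) := by group
      have hai : a⁻¹ • v = χ ⟨a⁻¹, A.inv_mem ha⟩ • v := hχ ⟨a⁻¹, A.inv_mem ha⟩
      rw [e, mul_smul, mul_smul, mul_smul, hai, hlin g⁻¹ (Subgroup.inv_mem _ hgC), hginv,
        hlN a (hAN ha), show a • v = χ ⟨a, ha⟩ • v from hχ ⟨a, ha⟩, smul_smul, ← hχmul,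
        hgl, hgv, show (⟨a⁻¹, A.inv_mem ha⟩ : A) * ⟨a, ha⟩ = 1 from Subtype.ext (inv_mul_cancel a),
        hχ1, one_smul]
    have hcomm : ∀ n ∈ N, g * a * g⁻¹ * a⁻¹ * n = n * (g * a * g⁻¹ * a⁻¹) := by
      intro n hn
      rw [← commutatorElement_eq_one_iff_mul_comm]
      have hga := hAN (hnorm g hgv a ha)
      have e1 : ⁅g * a * g⁻¹, n⁆ = ⁅a, n⁆ := by
        have := hbr (g * a * g⁻¹) (hnorm g hgv a ha) ⟨n, hn⟩ (cj ⟨n, hn⟩) (by rw [← hT, hTid])
        exact this.trans (hgcomm a (hAN ha) n hn)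
      have e2 := hbilL (g * a * g⁻¹ * a⁻¹) (hAN ha1) a (hAN ha) n hn
      rw [show g * a * g⁻¹ * a⁻¹ * a = g * a * g⁻¹ by group, e1] at e2
      exact right_eq_mul.mp e2
    have := hfix1 _ ha1 hav hcomm
    calc g * a = (g * a * g⁻¹ * a⁻¹) * (a * g) := by group
      _ = _ := by rw [this, one_mul]
  -- the deviations
  have hdev : ∀ n ∈ N, g • n • v = n • v → n⁻¹ * (g * n * g⁻¹) ∈ A ∧ (n⁻¹ * (g * n * g⁻¹)) • v = v := by
    intro n hn h
    have h' : (n⁻¹ * (g * n * g⁻¹)) • v = v := by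
      rw [mul_smul, mul_smul, mul_smul, hginv, h, inv_smul_smul]
    exact ⟨⟨N.mul_mem (N.inv_mem hn) (hN.normal.conj_mem n hn g), 1, by rw [one_smul]; exact h'⟩, h'⟩
  let d : Fin k → H := fun i => (sec (gen m i) : H)⁻¹ * (g * sec (gen m i) * g⁻¹)
  have hd : ∀ i, d i ∈ A ∧ d i • v = v := fun i =>
    hdev _ (sec (gen m i)).2 (hgsec _ (Or.inl (gen_mem_W i)))
  have hgs : ∀ i, g * (sec (gen m i) : H) * g⁻¹ = sec (gen m i) * d i := fun i =>
    (mul_inv_cancel_left _ _).symm
  -- the deviations commute with the section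
  have hdle : ∀ i j : Fin k, i ≤ j → ⁅d i, (sec (gen m j) : H)⁆ = 1 := by
    intro i j hij
    set ni : H := Subtype.val (sec (gen m i)) with hni
    set nj : H := Subtype.val (sec (gen m j)) with hnj
    set s := gen m i + gen m j with hs
    set y : H := (ni * nj)⁻¹ * sec s with hy
    have hniN : ni ∈ N := (sec (gen m i)).2
    have hnjN : nj ∈ N := (sec (gen m j)).2
    have hyY : y ∈ Y := by
      have := (hfeq (sec (gen m i) * sec (gen m j)) (sec s)).mp (by rw [hfmul, hsec, hsec, hsec])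
      exact this
    have hes : (sec s : H) = ni * nj * y := by rw [hy, mul_inv_cancel_left]
    have hfixs : g • (sec s : H) • v = (sec s : H) • v := by
      rcases cover (m := m) hij with h | h | h
      · exact hgspan _ ((hfY _).mp ((hsec _).trans h))
      · exact hgsec _ (Or.inl h)
      · exact hgsec _ (Or.inr h)
    obtain ⟨-, hfixd⟩ := hdev _ (sec s).2 hfixs
    set ay := y⁻¹ * (g * y * g⁻¹) with hay
    obtain ⟨hayA, hayv⟩ := hdev y (hYN hyY) (hgspan y hyY)
    have hdiY : Commute (d i) y := ((hYmem y).mp hyY).2 _ (hd i).1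
    have hdjY : Commute (d j) y := ((hYmem y).mp hyY).2 _ (hd j).1
    set z := ⁅nj⁻¹, d i⁆ with hz
    have hzU : z ∈ U := hN.comm _ (N.inv_mem hnjN) _ (hAN (hd i).1)
    have e1 : g * (ni * nj * y) * g⁻¹ = (ni * d i) * (nj * d j) * (y * ay) := by
      rw [show ni * d i = g * ni * g⁻¹ from (hgs i).symm,
        show nj * d j = g * nj * g⁻¹ from (hgs j).symm, show y * ay = g * y * g⁻¹ from mul_inv_cancel_left y _]; group
    have e2 : d i * nj = nj * (z * d i) := by
      rw [hz]; simp only [commutatorElement_def]; group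
    have hzy : Commute z y := hcenU z hzU y (hYN hyY)
    have e3 : (ni * nj * y)⁻¹ * (g * (ni * nj * y) * g⁻¹) = z * d i * d j * ay := by
      rw [e1, show ni * d i * (nj * d j) = ni * (d i * nj) * d j by group, e2]
      calc (ni * nj * y)⁻¹ * (ni * (nj * (z * d i)) * d j * (y * ay))
          = y⁻¹ * (z * d i * d j * y) * ay := by group
        _ = y⁻¹ * (y * (z * d i * d j)) * ay := by
          rw [((hzy.mul_left hdiY).mul_left hdjY).eq]
        _ = _ := by group
    rw [hes, e3] at hfixd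
    rw [mul_smul, mul_smul, mul_smul, hayv, (hd j).2, (hd i).2] at hfixd
    have hz1 : z = 1 := by
      refine hfix1 z (hUA hzU) hfixd fun n hn => hcenU z hzU n hn
    rw [hz, commutatorElement_eq_one_iff_mul_comm] at hz1
    rw [commutatorElement_eq_one_iff_mul_comm]
    calc d i * nj = nj * (nj⁻¹ * d i) * nj := by group
      _ = nj * (d i * nj⁻¹) * nj := by rw [hz1]
      _ = _ := by group
  have hdall : ∀ i j : Fin k, ⁅d i, (sec (gen m j) : H)⁆ = 1 := by
    intro i j
    rcases le_total i j with h | h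
    · exact hdle i j h
    set ni : H := Subtype.val (sec (gen m i))
    set nj : H := Subtype.val (sec (gen m j))
    have hniN : ni ∈ N := (sec (gen m i)).2
    have hnjN : nj ∈ N := (sec (gen m j)).2
    have e := hgcomm ni hniN nj hnjN
    have h' := hdle j i h
    rw [hgs i, hgs j, hbilL ni hniN _ (hAN (hd i).1) _ (N.mul_mem hnjN (hAN (hd j).1)),
      hbilR ni hniN nj hnjN _ (hAN (hd j).1), hbilR _ (hAN (hd i).1) nj hnjN _ (hAN (hd j).1),
      show ⁅ni, d j⁆ = 1 by rw [← commutatorElement_inv, h', inv_one],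
      show ⁅d i, d j⁆ = 1 from commutatorElement_eq_one_iff_mul_comm.mpr
        (habel _ (hd i).1 _ (hd j).1), mul_one, mul_one, mul_eq_left] at e
    exact e
  -- generation
  have hgenN : ∀ a ∈ N, (∀ y ∈ Y, a * y = y * a) →
      (∀ j, a * (sec (gen m j) : H) = (sec (gen m j) : H) * a) → ∀ n ∈ N, a * n = n * a := by
    intro a haN hYa hga n hn
    let P : AddSubgroup (∀ j : Fin k, ZMod (m j)) :=
      { carrier := {x | ∀ n : N, f n = x → Commute a (n : H)}
        zero_mem' := fun n hn => hYa _ ((hfY n).mp hn)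
        add_mem' := fun {x x'} hx hx' n hn => by
          have h1 := hx (n * (sec x')⁻¹) (by
            have := hfmul (n * (sec x')⁻¹) (sec x')
            rw [inv_mul_cancel_right, hn, hsec] at this
            exact add_right_cancel this.symm)
          have := h1.mul_right (hx' (sec x') (hsec x'))
          rwa [Subgroup.coe_mul, Subgroup.coe_inv, inv_mul_cancel_right] at this
        neg_mem' := fun {x} hx n hn => by
          have h1 := (hx n⁻¹ (by
            have := hfmul n n⁻¹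
            rw [mul_inv_cancel, hf1, hn] at this
            exact (neg_eq_iff_add_eq_zero.mpr this.symm).symm.trans (neg_neg x))).inv_right
          rwa [Subgroup.coe_inv, inv_inv] at h1 }
    have hgenP : ∀ j, gen m j ∈ P := fun j n hn => by
      have hy := hYa _ ((hfeq (sec (gen m j)) n).mp ((hsec _).trans hn.symm))
      have := (show Commute a (sec (gen m j) : H) from hga j).mul_right hy
      rwa [mul_inv_cancel_left] at this
    have hall : f ⟨n, hn⟩ ∈ P := by
      rw [show f ⟨n, hn⟩ = ∑ j, (f ⟨n, hn⟩ j).val • gen m j by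
        funext l
        rw [Finset.sum_apply, Finset.sum_eq_single l]
        · simp [Pi.smul_apply, gen_self, nsmul_eq_mul]
        · intro l' _ hl
          simp [Pi.smul_apply, gen_ne hl.symm]
        · simp]
      exact P.sum_mem fun j _ => P.nsmul_mem (hgenP j) _
    exact hall ⟨n, hn⟩ rfl
  have hd1 : ∀ i, d i = 1 := fun i =>
    hfix1 _ (hd i).1 (hd i).2 (hgenN _ (hAN (hd i).1)
      (fun y hy => ((hYmem y).mp hy).2 _ (hd i).1)
      fun j => commutatorElement_eq_one_iff_mul_comm.mp (hdall i j))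
  have hgn : ∀ i, g * (sec (gen m i) : H) * g⁻¹ = sec (gen m i) := fun i => by
    rw [hgs i, hd1 i, mul_one]
  have hgY : ∀ y ∈ Y, g * y = y * g := by
    intro y hy
    obtain ⟨haA, hav⟩ := hdev y (hYN hy) (hgspan y hy)
    set a := y⁻¹ * (g * y * g⁻¹) with ha
    have : a = 1 := by
      refine hfix1 a haA hav (hgenN a (hAN haA) (fun y' hy' => ((hYmem y').mp hy').2 a haA) fun j => ?_)
      have e := hgcomm y (hYN hy) _ (sec (gen m j)).2
      rw [hgn j, show g * y * g⁻¹ = y * a by rw [ha, mul_inv_cancel_left],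
        hbilL y (hYN hy) a (hAN haA) _ (sec (gen m j)).2, mul_eq_left] at e
      exact commutatorElement_eq_one_iff_mul_comm.mp e
    rw [ha, inv_mul_eq_one] at this
    exact (mul_inv_eq_iff_eq_mul.mp this.symm)
  have hgN : ∀ n ∈ N, g * n = n * g := by
    intro n hn
    let P : AddSubgroup (∀ j : Fin k, ZMod (m j)) :=
      { carrier := {x | ∀ n : N, f n = x → Commute g (n : H)}
        zero_mem' := fun n hn => hgY _ ((hfY n).mp hn)
        add_mem' := fun {x x'} hx hx' n hn => by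
          have h1 := hx (n * (sec x')⁻¹) (by
            have := hfmul (n * (sec x')⁻¹) (sec x')
            rw [inv_mul_cancel_right, hn, hsec] at this
            exact add_right_cancel this.symm)
          have := h1.mul_right (hx' (sec x') (hsec x'))
          rwa [Subgroup.coe_mul, Subgroup.coe_inv, inv_mul_cancel_right] at this
        neg_mem' := fun {x} hx n hn => by
          have h1 := (hx n⁻¹ (by
            have := hfmul n n⁻¹
            rw [mul_inv_cancel, hf1, hn] at this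
            exact (neg_eq_iff_add_eq_zero.mpr this.symm).symm.trans (neg_neg x))).inv_right
          rwa [Subgroup.coe_inv, inv_inv] at h1 }
    have hgenP : ∀ j, gen m j ∈ P := fun j n hn => by
      have hy := hgY _ ((hfeq (sec (gen m j)) n).mp ((hsec _).trans hn.symm))
      have h' : Commute g (sec (gen m j) : H) := mul_inv_eq_iff_eq_mul.mp (hgn j)
      have := h'.mul_right hy
      rwa [mul_inv_cancel_left] at this
    have hall : f ⟨n, hn⟩ ∈ P := by
      rw [show f ⟨n, hn⟩ = ∑ j, (f ⟨n, hn⟩ j).val • gen m j by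
        funext l
        rw [Finset.sum_apply, Finset.sum_eq_single l]
        · simp [Pi.smul_apply, gen_self, nsmul_eq_mul]
        · intro l' _ hl
          simp [Pi.smul_apply, gen_ne hl.symm]
        · simp]
      exact P.sum_mem fun j _ => P.nsmul_mem (hgenP j) _
    exact hall ⟨n, hn⟩ rfl
  have hgU' : g ∈ U := hN.centre g hgC hgN
  have h3 : g = 1 := hfix1 g (hUA hgU') hgv hgN
  intro w
  rw [h3, one_smul]

end Cfsg.Agent.BC85.BaseThree
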